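import Cfsg.Agent.Lib.CoprimeFlavell.Critical

/-!
# Fixed points of commutators under coprime action: an abelian invariant quotient `H / N`
-/

set_option autoImplicit false

namespace Cfsg.Agent.Lib.CoprimeFlavell

open Subgroup
open scoped commutatorElement

universe u

variable {G : Type u} [Group G] [Finite G] {p : ℕ} {x : G} {H N : Subgroup G}

/-- If `H = ⁅H, x⁆` and `H / N` is abelian, the fixed points lie in `N`, and `h ↦ ⁅h, x⁆` is onto
modulo `N`. -/
theorem abelian_quotient (s : Setting p x H) (hcomm : ⁅H, zpowers x⁆ = H)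
    (hHN : H ≤ normalizer (N : Set G)) (hxN : x ∈ normalizer (N : Set G))
    (hd : ⁅H, H⁆ ≤ N) :
    H ⊓ centralizer (zpowers x : Set G) ≤ N ∧ ∀ k ∈ H, ∃ h ∈ H, ⁅h, x⁆⁻¹ * k ∈ N := by
  set M := normalizer (N : Set G) with hM
  set x' : M := ⟨x, hxN⟩ with hx'
  set H' := H.subgroupOf M with hH'
  set f := QuotientGroup.mk' (N.subgroupOf M) with hf
  have s' : Setting p (f x') (H'.map f) := (s.subgroupOf hxN hHN).map f
  have hab : IsMulCommutative (H'.map f) := by
    rw [← le_centralizer_iff_isMulCommutative, ← commutator_eq_bot_iff_le_centralizer,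
      ← map_commutator, Subgroup.map_eq_bot_iff, hf, QuotientGroup.ker_mk']
    intro w hw
    have h1 : (w : G) ∈ ⁅H'.map M.subtype, H'.map M.subtype⁆ := by
      rw [← map_commutator]; exact ⟨w, hw, rfl⟩
    rw [map_subgroupOf_eq_of_le hHN] at h1
    exact hd h1
  have hc : ⁅H'.map f, zpowers (f x')⁆ = H'.map f := by
    rw [← MonoidHom.map_zpowers, ← map_commutator, commutator_subgroupOf hxN hHN hcomm]
  have hbot : H'.map f ⊓ centralizer (zpowers (f x') : Set (M ⧸ N.subgroupOf M)) = ⊥ := by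
    haveI := hab
    have h := Coprime.inf_centralizer_inf_commutator_eq_bot s'.le_normalizer s'.cop'
    rwa [hc, inf_of_le_left inf_le_left] at h
  refine ⟨fun h hh => ?_, fun k hk => ?_⟩
  · have h1 : f ⟨h, hHN hh.1⟩ ∈
        H'.map f ⊓ centralizer (zpowers (f x') : Set (M ⧸ N.subgroupOf M)) := by
      refine ⟨⟨_, hh.1, rfl⟩, mem_centralizer_iff.mpr ?_⟩
      rw [← MonoidHom.map_zpowers]
      rintro _ ⟨a, ha, rfl⟩
      have ha' : (a : G) ∈ zpowers x := map_subtype_zpowers hxN ▸ ⟨a, ha, rfl⟩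
      rw [← map_mul, ← map_mul]
      exact congrArg f (Subtype.ext (mem_centralizer_iff.mp hh.2 _ ha'))
    rw [hbot, mem_bot] at h1
    have h2 : (⟨h, hHN hh.1⟩ : M) ∈ N.subgroupOf M :=
      (QuotientGroup.eq_one_iff (N := N.subgroupOf M) _).mp h1
    exact h2
  · set Hb := H'.map f with hHb
    let F : Hb → Hb := fun y => ⟨⁅(y : M ⧸ N.subgroupOf M), f x'⁆,
      hc.le (commutator_mem_commutator y.2 (mem_zpowers _))⟩
    have hinj : Function.Injective F := by
      intro y w hyw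
      have h1 : ⁅(y : M ⧸ N.subgroupOf M), f x'⁆ = ⁅(w : M ⧸ N.subgroupOf M), f x'⁆ :=
        congrArg Subtype.val hyw
      simp only [commutatorElement_def, mul_left_inj] at h1
      have h2 : f x' ∈ centralizer
          ({(w : M ⧸ N.subgroupOf M)⁻¹ * y} : Set (M ⧸ N.subgroupOf M)) := by
        rw [mem_centralizer_singleton_iff]
        calc f x' * ((w : M ⧸ N.subgroupOf M)⁻¹ * y)
            = (w : M ⧸ N.subgroupOf M)⁻¹ * ((w : M ⧸ N.subgroupOf M) * f x' *
                (w : M ⧸ N.subgroupOf M)⁻¹) * y := by group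
          _ = (w : M ⧸ N.subgroupOf M)⁻¹ * ((y : M ⧸ N.subgroupOf M) * f x' *
                (y : M ⧸ N.subgroupOf M)⁻¹) * y := by rw [h1]
          _ = (w : M ⧸ N.subgroupOf M)⁻¹ * y * f x' := by group
      have h3 : (w : M ⧸ N.subgroupOf M)⁻¹ * y ∈
          Hb ⊓ centralizer (zpowers (f x') : Set (M ⧸ N.subgroupOf M)) := by
        refine ⟨Hb.mul_mem (Hb.inv_mem w.2) y.2, mem_centralizer_iff.mpr fun a ha => ?_⟩
        exact mem_centralizer_singleton_iff.mp (zpowers_le.mpr h2 ha)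
      rw [hbot, mem_bot, inv_mul_eq_one] at h3
      exact Subtype.ext h3.symm
    obtain ⟨⟨y, hy⟩, hye⟩ := Finite.injective_iff_surjective.mp hinj
      ⟨f ⟨k, hHN hk⟩, ⟨_, hk, rfl⟩⟩
    obtain ⟨h, hh, rfl⟩ := hy
    refine ⟨h, hh, ?_⟩
    have h1 : f ⁅h, x'⁆ = f ⟨k, hHN hk⟩ := by
      rw [map_commutatorElement]; exact congrArg Subtype.val hye
    have h2 : ⁅h, x'⁆⁻¹ * ⟨k, hHN hk⟩ ∈ N.subgroupOf M :=
      (QuotientGroup.eq (s := N.subgroupOf M)).mp h1
    exact h2

omit [Finite G] in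
/-- `⁅zpowers y, X⁆ ≤ D` can be checked on `y` when `y` normalises `D`. -/
theorem commutator_zpowers_le {y : G} {X D : Subgroup G} (hy : y ∈ normalizer (D : Set G))
    (h : ∀ b ∈ X, ⁅y, b⁆ ∈ D) : ⁅zpowers y, X⁆ ≤ D := by
  let P : Subgroup G :=
    { carrier := {g | g ∈ normalizer (D : Set G) ∧ ∀ c ∈ X, ⁅g, c⁆ ∈ D}
      one_mem' := ⟨one_mem _, fun c _ => by simp⟩
      mul_mem' := fun {g g'} hg hg' => ⟨mul_mem hg.1 hg'.1, fun c hc => by
        rw [commutatorElement_mul_left_eq_conj_mul]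
        exact mul_mem ((mem_normalizer_iff.1 hg.1 _).1 (hg'.2 c hc)) (hg.2 c hc)⟩
      inv_mem' := fun {g} hg => ⟨inv_mem hg.1, fun c hc => by
        rw [show ⁅g⁻¹, c⁆ = g⁻¹ * ⁅g, c⁆⁻¹ * g⁻¹⁻¹ by simp [commutatorElement_def, mul_assoc]]
        exact (mem_normalizer_iff.1 (inv_mem hg.1) _).1 (inv_mem (hg.2 c hc))⟩ }
  have hle : zpowers y ≤ P := zpowers_le.mpr ⟨hy, h⟩
  exact commutator_le.2 fun g hg c hc => (hle hg).2 c hc

end Cfsg.Agent.Lib.CoprimeFlavell
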