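import Cfsg.Agent.Lib.Coprime.Sylow

/-!
# Fixed points of commutators under coprime action: definitions and generalities

For `A ≤ G` and `h : G`, `bracket A h` is generated by the `⁅h, a⁆`, `a ∈ A`, and `fixGen A H` by
the fixed points of `A` in the `bracket A h`, `h ∈ H`.
-/

set_option autoImplicit false

namespace Cfsg.Agent.Lib.CoprimeFlavell

open Subgroup
open scoped commutatorElement

variable {G : Type*} [Group G] {A H K X Y Z D : Subgroup G}

/-- The subgroup generated by the commutators of `h` with `A`. -/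
def bracket (A : Subgroup G) (h : G) : Subgroup G :=
  closure ((fun a => ⁅h, a⁆) '' (A : Set G))

/-- The subgroup generated by the fixed points of `A` in the `bracket A h`, `h ∈ H`. -/
def fixGen (A H : Subgroup G) : Subgroup G :=
  ⨆ h ∈ H, bracket A h ⊓ centralizer (A : Set G)

theorem commutatorElement_mem_bracket {h a : G} (ha : a ∈ A) : ⁅h, a⁆ ∈ bracket A h :=
  subset_closure ⟨a, ha, rfl⟩

theorem bracket_le_commutator {h : G} (hh : h ∈ H) : bracket A h ≤ ⁅H, A⁆ := by
  rw [bracket, closure_le]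
  rintro _ ⟨a, ha, rfl⟩
  exact commutator_mem_commutator hh ha

theorem le_normalizer_bracket (h : G) : A ≤ normalizer (bracket A h : Set G) := by
  have key : ∀ b ∈ A, (bracket A h).map (MulAut.conj b).toMonoidHom ≤ bracket A h := by
    intro b hb
    rw [bracket, MonoidHom.map_closure, closure_le]
    rintro _ ⟨_, ⟨a, ha, rfl⟩, rfl⟩
    change b * ⁅h, a⁆ * b⁻¹ ∈ bracket A h
    rw [show b * ⁅h, a⁆ * b⁻¹ = ⁅h, b⁆⁻¹ * ⁅h, b * a⁆ by
      simp only [commutatorElement_def]; group]
    exact mul_mem (inv_mem (commutatorElement_mem_bracket hb))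
      (commutatorElement_mem_bracket (mul_mem hb ha))
  exact Coprime.le_normalizer_of_conj_mem fun b hb y hy => key b hb ⟨y, hy, rfl⟩

theorem map_bracket {G' : Type*} [Group G'] (f : G →* G') (h : G) :
    (bracket A h).map f = bracket (A.map f) (f h) := by
  rw [bracket, bracket, MonoidHom.map_closure, coe_map, ← Set.image_comp, ← Set.image_comp]
  congr 1
  exact Set.image_congr' fun a => map_commutatorElement f h a

theorem bracket_conj {c : G} (hc : c ∈ centralizer (A : Set G)) (h : G) :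
    bracket A (c * h * c⁻¹) = (bracket A h).map (MulAut.conj c).toMonoidHom := by
  rw [bracket, bracket, MonoidHom.map_closure, ← Set.image_comp]
  congr 1
  refine Set.image_congr fun a ha => ?_
  change _ = c * ⁅h, a⁆ * c⁻¹
  have h1 : c * a * c⁻¹ = a := by
    rw [← mem_centralizer_iff.mp hc a ha, mul_inv_cancel_right]
  conv_lhs => rw [← h1]
  simp only [commutatorElement_def]; group

theorem bracket_mul_left {c : G} (hc : c ∈ centralizer (A : Set G)) (h : G) :
    bracket A (c * h) = (bracket A h).map (MulAut.conj c).toMonoidHom := by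
  rw [bracket, bracket, MonoidHom.map_closure, ← Set.image_comp]
  congr 1
  refine Set.image_congr fun a ha => ?_
  change _ = c * ⁅h, a⁆ * c⁻¹
  have h1 : ⁅c, a⁆ = 1 :=
    commutatorElement_eq_one_iff_mul_comm.mpr (mem_centralizer_iff.mp hc a ha).symm
  rw [commutatorElement_mul_left_eq_conj_mul, h1, mul_one]

theorem bracket_inf_le_fixGen {h : G} (hh : h ∈ H) :
    bracket A h ⊓ centralizer (A : Set G) ≤ fixGen A H :=
  le_iSup₂ (f := fun h (_ : h ∈ H) => bracket A h ⊓ centralizer (A : Set G)) h hh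

theorem fixGen_mono (h : K ≤ H) : fixGen A K ≤ fixGen A H :=
  iSup₂_le fun _ hk => bracket_inf_le_fixGen (h hk)

theorem fixGen_le_centralizer : fixGen A H ≤ centralizer (A : Set G) :=
  iSup₂_le fun _ _ => inf_le_right

theorem fixGen_le_commutator : fixGen A H ≤ ⁅H, A⁆ :=
  iSup₂_le fun _ hh => inf_le_left.trans (bracket_le_commutator hh)

theorem fixGen_le (hAH : A ≤ normalizer (H : Set G)) : fixGen A H ≤ H :=
  fixGen_le_commutator.trans (Coprime.commutator_le_of_le_normalizer hAH)

theorem inf_centralizer_le_normalizer_fixGen :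
    H ⊓ centralizer (A : Set G) ≤ normalizer (fixGen A H : Set G) := by
  refine Coprime.le_normalizer_of_conj_mem fun c hc y hy => ?_
  have key : (fixGen A H).map (MulAut.conj c).toMonoidHom ≤ fixGen A H := by
    rw [fixGen, Subgroup.map_iSup]
    refine iSup_le fun h => ?_
    rw [Subgroup.map_iSup]
    refine iSup_le fun hh => ?_
    refine le_trans ?_ (bracket_inf_le_fixGen (A := A) (mul_mem (mul_mem hc.1 hh) (inv_mem hc.1)))
    refine le_inf ((map_mono inf_le_left).trans (bracket_conj hc.2 h).ge) ?_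
    rintro _ ⟨z, hz, rfl⟩
    exact mul_mem (mul_mem hc.2 hz.2) (inv_mem hc.2)
  exact key ⟨y, hy, rfl⟩

theorem map_fixGen_le {G' : Type*} [Group G'] (f : G →* G') :
    (fixGen A H).map f ≤ fixGen (A.map f) (H.map f) := by
  rw [fixGen, Subgroup.map_iSup]
  refine iSup_le fun h => ?_
  rw [Subgroup.map_iSup]
  refine iSup_le fun hh => le_trans ?_ (bracket_inf_le_fixGen (mem_map_of_mem f hh))
  refine le_inf ((map_mono inf_le_left).trans (map_bracket f h).le) ?_
  rintro _ ⟨z, hz, rfl⟩
  refine mem_centralizer_iff.mpr ?_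
  rintro _ ⟨a, ha, rfl⟩
  rw [← map_mul, mem_centralizer_iff.mp hz.2 a ha, map_mul]

theorem fixGen_map_le [Finite G] {G' : Type*} [Group G'] (f : G →* G')
    (hAH : A ≤ normalizer (H : Set G)) (hcop : (Nat.card A).Coprime (Nat.card H))
    (hsolv : Group.IsSolvable A) :
    fixGen (A.map f) (H.map f) ≤ (fixGen A H).map f := by
  refine iSup₂_le fun y hy => ?_
  obtain ⟨h, hh, rfl⟩ := hy
  rw [← map_bracket, ← Coprime.map_inf_centralizer f (le_normalizer_bracket h) ?_ (Or.inl hsolv)]
  · exact map_mono (bracket_inf_le_fixGen hh)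
  · exact Coprime.coprime_of_le_right
      (inf_le_right.trans ((bracket_le_commutator hh).trans
        (Coprime.commutator_le_of_le_normalizer hAH))) hcop

/-- `⁅X ⊔ Y, Z⁆ ≤ D` can be checked on `X` and `Y` when these normalise `D`. -/
theorem commutator_sup_left_le (hX : X ≤ normalizer (D : Set G)) (hY : Y ≤ normalizer (D : Set G))
    (h1 : ⁅X, Z⁆ ≤ D) (h2 : ⁅Y, Z⁆ ≤ D) : ⁅X ⊔ Y, Z⁆ ≤ D := by
  let P : Subgroup G :=
    { carrier := {x | x ∈ normalizer (D : Set G) ∧ ∀ c ∈ Z, ⁅x, c⁆ ∈ D}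
      one_mem' := ⟨one_mem _, fun c _ => by simp⟩
      mul_mem' := fun {x y} hx hy => ⟨mul_mem hx.1 hy.1, fun c hc => by
        rw [commutatorElement_mul_left_eq_conj_mul]
        exact mul_mem ((mem_normalizer_iff.1 hx.1 _).1 (hy.2 c hc)) (hx.2 c hc)⟩
      inv_mem' := fun {x} hx => ⟨inv_mem hx.1, fun c hc => by
        rw [show ⁅x⁻¹, c⁆ = x⁻¹ * ⁅x, c⁆⁻¹ * x⁻¹⁻¹ by simp [commutatorElement_def, mul_assoc]]
        exact (mem_normalizer_iff.1 (inv_mem hx.1) _).1 (inv_mem (hx.2 c hc))⟩ }
  have hle : X ⊔ Y ≤ P := sup_le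
    (fun x hx => ⟨hX hx, fun c hc => h1 (commutator_mem_commutator hx hc)⟩)
    (fun x hx => ⟨hY hx, fun c hc => h2 (commutator_mem_commutator hx hc)⟩)
  exact commutator_le.2 fun x hx c hc => (hle hx).2 c hc

theorem commutator_sup_self_le (hX : X ≤ normalizer (D : Set G))
    (hY : Y ≤ normalizer (D : Set G)) (h1 : ⁅X, X⁆ ≤ D) (h2 : ⁅Y, Y⁆ ≤ D) (h3 : ⁅X, Y⁆ ≤ D) :
    ⁅X ⊔ Y, X ⊔ Y⁆ ≤ D := by
  refine commutator_sup_left_le hX hY ?_ ?_
  · rw [commutator_comm]
    exact commutator_sup_left_le hX hY h1 (by rwa [commutator_comm])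
  · rw [commutator_comm]
    exact commutator_sup_left_le hX hY h3 h2

theorem le_normalizer_of_le_centralizer (h : X ≤ centralizer (D : Set G)) :
    X ≤ normalizer (D : Set G) :=
  h.trans (centralizer_le_normalizer _)

theorem le_normalizer_inf {L : Subgroup G} (h1 : L ≤ normalizer (X : Set G))
    (h2 : L ≤ normalizer (Y : Set G)) : L ≤ normalizer ((X ⊓ Y : Subgroup G) : Set G) :=
  Coprime.le_normalizer_of_conj_mem fun _ hl _ hy =>
    ⟨Coprime.conj_mem_of_le_normalizer h1 hl hy.1, Coprime.conj_mem_of_le_normalizer h2 hl hy.2⟩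

theorem le_normalizer_centralizer {L : Subgroup G} (h : L ≤ normalizer (X : Set G)) :
    L ≤ normalizer ((centralizer (X : Set G) : Subgroup G) : Set G) := by
  refine Coprime.le_normalizer_of_conj_mem fun l hl c hc => mem_centralizer_iff.mpr fun y hy => ?_
  have h1 := mem_centralizer_iff.mp hc _ (Coprime.conj_mem_of_le_normalizer' h hl hy)
  calc y * (l * c * l⁻¹) = l * (l⁻¹ * y * l * c) * l⁻¹ := by group
    _ = l * (c * (l⁻¹ * y * l)) * l⁻¹ := by rw [h1]
    _ = l * c * l⁻¹ * y := by group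

theorem le_normalizer_sup {L : Subgroup G} (h1 : L ≤ normalizer (X : Set G))
    (h2 : L ≤ normalizer (Y : Set G)) : L ≤ normalizer ((X ⊔ Y : Subgroup G) : Set G) := by
  refine Coprime.le_normalizer_of_conj_mem fun l hl z hz => ?_
  have : (X ⊔ Y).map (MulAut.conj l).toMonoidHom ≤ X ⊔ Y := by
    rw [Subgroup.map_sup]
    exact sup_le_sup (fun w ⟨u, hu, he⟩ => he ▸ Coprime.conj_mem_of_le_normalizer h1 hl hu)
      (fun w ⟨u, hu, he⟩ => he ▸ Coprime.conj_mem_of_le_normalizer h2 hl hu)
  exact this ⟨z, hz, rfl⟩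

theorem exists_mul_of_mem_sup (h : Y ≤ normalizer (X : Set G)) {g : G} (hg : g ∈ X ⊔ Y) :
    ∃ a ∈ X, ∃ b ∈ Y, a * b = g := by
  rw [← SetLike.mem_coe, coe_mul_of_right_le_normalizer_left _ _ h, Set.mem_mul] at hg
  exact hg

/-- If `Y` normalises the subgroup `R` generates with commutators, these also absorb `⁅U, R⁆`. -/
theorem commutator_le_commutator_of_le {U R : Subgroup G} (hU : U ≤ Y) (hR : R ≤ ⁅Y, A⁆) :
    ⁅U, R⁆ ≤ ⁅Y, A⁆ := by
  rw [commutator_le]
  intro u hu r hr
  exact mul_mem (Coprime.conj_mem_of_le_normalizer (normalizer_commutator_ge_left Y A) (hU hu)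
    (hR hr)) (inv_mem (hR hr))

/-- The standing hypotheses. -/
structure Setting (p : ℕ) (x : G) (H : Subgroup G) : Prop where
  prime : p.Prime
  ne_two : p ≠ 2
  pow_eq : x ^ p = 1
  mem_normalizer : x ∈ normalizer (H : Set G)
  solv : Group.IsSolvable H
  cop : (Nat.card H).Coprime p

/-- What is to be proved. -/
def Holds (x : G) (H : Subgroup G) : Prop :=
  ⁅H, zpowers x⁆ ⊓ centralizer (zpowers x : Set G) ≤ fixGen (zpowers x) H

theorem zpowers_le_normalizer {x : G} (h : x ∈ normalizer (K : Set G)) :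
    zpowers x ≤ normalizer (K : Set G) :=
  zpowers_le.mpr h

namespace Setting

variable [Finite G] {p : ℕ} {x : G}

theorem le_normalizer (s : Setting p x H) : zpowers x ≤ normalizer (H : Set G) :=
  zpowers_le.mpr s.mem_normalizer

theorem card_zpowers_dvd (s : Setting p x H) : Nat.card (zpowers x) ∣ p := by
  rw [Nat.card_zpowers]
  exact orderOf_dvd_of_pow_eq_one s.pow_eq

theorem cop' (s : Setting p x H) : (Nat.card (zpowers x)).Coprime (Nat.card H) :=
  s.cop.symm.coprime_dvd_left s.card_zpowers_dvd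

theorem solv_zpowers (_s : Setting p x H) : Group.IsSolvable (zpowers x) :=
  inferInstance

theorem mono (s : Setting p x H) (hK : K ≤ H) (hx : x ∈ normalizer (K : Set G)) :
    Setting p x K where
  prime := s.prime
  ne_two := s.ne_two
  pow_eq := s.pow_eq
  mem_normalizer := hx
  solv := Coprime.isSolvable_of_le hK s.solv
  cop := s.cop.coprime_dvd_left (card_dvd_of_le hK)

theorem zpowers_sq (s : Setting p x H) : zpowers (x ^ 2) = zpowers x := by
  refine le_antisymm (zpowers_le.mpr (pow_mem (mem_zpowers x) 2)) (zpowers_le.mpr ?_)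
  obtain ⟨k, hk⟩ := s.prime.odd_of_ne_two s.ne_two
  refine mem_zpowers_iff.mpr ⟨(k + 1 : ℕ), ?_⟩
  rw [zpow_natCast, ← pow_mul, show 2 * (k + 1) = p + 1 by omega, pow_succ, s.pow_eq, one_mul]

end Setting

end Cfsg.Agent.Lib.CoprimeFlavell
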