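import Cfsg.Agent.Lib.CoprimeFlavell.Critical

/-!
# Fixed points of commutators under coprime action: the minimal subgroup is central
-/

set_option autoImplicit false

namespace Cfsg.Agent.Lib.CoprimeFlavell

open Subgroup
open scoped commutatorElement

universe u

variable {G : Type u} [Group G] [Finite G] {p q : ℕ} {x z : G} {H V N : Subgroup G}

/-- The central case of a minimal counterexample. -/
structure CentralCase (p q : ℕ) (x : G) (H V : Subgroup G) (z : G) : Prop
    extends Critical p q x H V where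
  le_cen : V ≤ centralizer (H : Set G)
  le_fix : V ≤ centralizer (zpowers x : Set G)
  mem : z ∈ V
  not_mem : z ∉ fixGen (zpowers x) H
  eq_zpowers : V = zpowers z
  inf_eq_bot : V ⊓ fixGen (zpowers x) H = ⊥
  fix_le : H ⊓ centralizer (zpowers x : Set G) ≤ fixGen (zpowers x) H ⊔ V

theorem Critical.exists_centralCase (c : Critical p q x H V)
    (hVH : V ≤ centralizer (H : Set G)) : ∃ z, CentralCase p q x H V z := by
  have hfix : V ≤ centralizer (zpowers x : Set G) := by
    rcases c.minimal (V ⊓ centralizer (zpowers x : Set G)) inf_le_left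
      (le_normalizer_of_le_centralizer (le_centralizer_iff.mp (inf_le_left.trans hVH)))
      (le_normalizer_inf (zpowers_le.mpr c.inv) (le_normalizer_centralizer le_normalizer)
        (mem_zpowers x)) with h | h
    · exact absurd (h ▸ bot_le) c.not_le
    · exact h ▸ inf_le_right
  obtain ⟨z, hz, hzK⟩ := SetLike.not_le_iff_exists.mp c.not_le
  have heq : ∀ y ∈ V, y ≠ 1 → V = zpowers y := by
    intro y hy hy1
    have hle : zpowers y ≤ V := zpowers_le.mpr hy
    refine ((c.minimal _ hle
      (le_normalizer_of_le_centralizer (le_centralizer_iff.mp (hle.trans hVH)))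
      (le_normalizer_of_le_centralizer (le_centralizer_iff.mp (hle.trans hfix))
        (mem_zpowers x))).resolve_left ?_).symm
    exact fun h => hy1 (zpowers_eq_bot.mp h)
  refine ⟨z, c, hVH, hfix, hz.1, hzK, heq z hz.1 (fun h => hzK (h ▸ one_mem _)), ?_, ?_⟩
  · refine eq_bot_iff.mpr fun y hy => mem_bot.mpr ?_
    by_contra hy1
    exact hzK (zpowers_le.mpr hy.2 (heq y hy.1 hy1 ▸ hz.1))
  · exact (c.key V c.ne_bot c.le c.normal c.inv).trans (sup_le_sup_left inf_le_left _)

namespace CentralCase

theorem ne_one (c : CentralCase p q x H V z) : z ≠ 1 := fun h => c.not_mem (h ▸ one_mem _)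

theorem orderOf_eq (c : CentralCase p q x H V z) : orderOf z = q :=
  haveI := Fact.mk c.qprime
  orderOf_eq_prime (c.pow_q z c.mem) c.ne_one

theorem mem_of_ne_bot (c : CentralCase p q x H V z) {L : Subgroup G} (hL : L ≤ V)
    (hne : L ≠ ⊥) : z ∈ L := by
  obtain ⟨⟨y, hy⟩, hy1⟩ := Subgroup.ne_bot_iff_exists_ne_one.mp hne
  have hy1' : y ≠ 1 := fun h => hy1 (Subtype.ext h)
  obtain ⟨k, hk⟩ := mem_zpowers_iff.mp (c.eq_zpowers ▸ hL hy : y ∈ zpowers z)
  have hco : (k.natAbs).Coprime q := by
    refine Nat.Coprime.symm (c.qprime.coprime_iff_not_dvd.mpr fun hd => hy1' ?_)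
    rw [← hk, ← orderOf_dvd_iff_zpow_eq_one, c.orderOf_eq]
    exact Int.natCast_dvd.mpr hd
  refine mem_of_pow_mem (n := k.natAbs) ?_ (c.orderOf_eq.symm ▸ hco)
  rcases Int.natAbs_eq k with h | h
  · rw [h, zpow_natCast] at hk
    exact hk ▸ hy
  · rw [h, zpow_neg, zpow_natCast] at hk
    exact inv_mem_iff.mp (hk ▸ hy)

/-- `H` is a `q`-group. -/
theorem isPGroup_H (c : CentralCase p q x H V z) : IsPGroup q H := by
  haveI := Fact.mk c.qprime
  by_contra hnq
  obtain ⟨P, hP⟩ := Coprime.exists_invariant_sylow (p := q) c.le_normalizer c.cop'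
    (Or.inl c.solv_zpowers)
  set S := (P : Subgroup H).map H.subtype with hSdef
  set A := zpowers x with hA
  have hSH : S ≤ H := map_subtype_le _
  have hSp : IsPGroup q S := P.2.map _
  have hSne : S ≠ H := fun h => hnq (h ▸ hSp)
  have hxS : x ∈ normalizer (S : Set G) := hP (mem_zpowers x)
  have hzS : z ∈ S := by
    haveI : (V.subgroupOf H).Normal := normal_subgroupOf_of_le_normalizer c.normal
    exact ⟨⟨z, c.le c.mem⟩,
      IsPGroup.le_sylow_of_normal (N := V.subgroupOf H) c.isPGroup.comap_subtype P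
        (show (⟨z, c.le c.mem⟩ : H) ∈ V.subgroupOf H from c.mem), rfl⟩
  set M := H ⊔ A with hM
  set T := (S ⊔ A).subgroupOf M with hT
  have hSAM : S ⊔ A ≤ M := sup_le_sup_right hSH A
  have hzM : z ∈ M := mem_sup_left (c.le c.mem)
  set z' : M := ⟨z, hzM⟩ with hz'
  have hcenM : M ≤ centralizer ({z} : Set G) := by
    refine sup_le (fun g hg => mem_centralizer_singleton_iff.mpr ?_)
      (fun g hg => mem_centralizer_singleton_iff.mpr ?_)
    · exact mem_centralizer_iff.mp (c.le_cen c.mem) g hg
    · exact mem_centralizer_iff.mp (c.le_fix c.mem) g hg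
  have key : ∀ (k : ℕ) (g : M), g⁻¹ * z' ^ k * g ∈ T → g⁻¹ * z' ^ k * g = z' ^ k := by
    intro k g _
    have h1 : Commute g z' := Subtype.ext (mem_centralizer_singleton_iff.mp (hcenM g.2))
    rw [mul_assoc, ← (h1.pow_right k).eq, inv_mul_cancel_left]
  have hzc : z' ∈ _root_.commutator M := by
    have h1 : z ∈ (_root_.commutator M).map M.subtype := by
      rw [map_subtype_commutator]
      exact commutator_mono (le_sup_left : H ≤ M) (le_sup_right : A ≤ M)
        (c.commutator_eq.symm ▸ c.le c.mem)
    obtain ⟨w, hw, hwe⟩ := h1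
    exact (Subtype.ext hwe : w = z') ▸ hw
  have htr := MonoidHom.transfer_eq_pow (Abelianization.of : T →* Abelianization T) z' key
  rw [MonoidHom.mem_ker.mp (Abelianization.commutator_subset_ker _ hzc)] at htr
  have h2 : (⟨z' ^ T.index, MonoidHom.transfer_eq_pow_aux z' key⟩ : T) ∈ _root_.commutator T :=
    (QuotientGroup.eq_one_iff _).mp htr.symm
  have h3 : z ^ T.index ∈ ⁅S ⊔ A, S ⊔ A⁆ := by
    have := mem_map_of_mem M.subtype (mem_map_of_mem T.subtype h2)
    rw [map_subtype_commutator, map_commutator,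
      show T.map M.subtype = S ⊔ A from map_subgroupOf_eq_of_le hSAM] at this
    simpa using this
  have hidx : ¬ q ∣ T.index := by
    intro hd
    have h1 : q ∣ S.relIndex M :=
      hd.trans (relIndex_dvd_of_le_left M (le_sup_left : S ≤ S ⊔ A))
    rw [← relIndex_mul_relIndex S H M hSH le_sup_left] at h1
    rcases c.qprime.dvd_mul.mp h1 with h | h
    · refine P.not_dvd_index ?_
      rwa [relIndex, hSdef, subgroupOf, comap_map_eq_self_of_injective H.subtype_injective] at h
    · haveI : (H.subgroupOf M).Normal :=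
        normal_subgroupOf_of_le_normalizer (sup_le le_normalizer c.le_normalizer)
      have hsup : A.subgroupOf M ⊔ H.subgroupOf M = ⊤ := by
        rw [← subgroupOf_sup le_sup_right le_sup_left, sup_comm, subgroupOf_self]
      have h4 : (H.subgroupOf M).index ∣ p := by
        rw [← relIndex_top_right, ← hsup, relIndex_sup_right]
        refine dvd_trans (relIndex_dvd_card _ _) ?_
        rw [Nat.card_congr (subgroupOfEquivOfLe (le_sup_right : A ≤ M)).toEquiv]
        exact c.card_zpowers_dvd
      exact c.ne_q ((Nat.prime_dvd_prime_iff_eq c.qprime c.prime).mp (h.trans h4))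
  -- `z` lies in `⁅S, A⁆ ⊔ ⁅C_S(A), C_S(A)⁆`
  set X := ⁅S, A⁆ with hX
  set C := S ⊓ centralizer (A : Set G) with hC
  have hXS : X ≤ S := Coprime.commutator_le_of_le_normalizer hP
  have hSsplit : X ⊔ C = S := Coprime.commutator_sup_centralizer hP
    (Coprime.coprime_of_le_right (hXS.trans hSH) c.cop') (Or.inl c.solv_zpowers)
  set D := X ⊔ ⁅C, C⁆ with hD
  have hXD : X ≤ normalizer (D : Set G) := le_sup_left.trans le_normalizer
  have hCD : C ≤ normalizer (D : Set G) :=
    le_normalizer_sup (inf_le_left.trans (normalizer_commutator_ge_left S A))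
      (normalizer_commutator_ge_left C C)
  have hSD : S ≤ normalizer (D : Set G) := hSsplit ▸ sup_le hXD hCD
  have hAD : A ≤ normalizer (D : Set G) := by
    have hAC : A ≤ normalizer (C : Set G) :=
      le_normalizer_inf hP (le_normalizer_centralizer le_normalizer)
    exact le_normalizer_sup (normalizer_commutator_ge_right S A)
      (Coprime.le_normalizer_commutator hAC hAC)
  have hSS : ⁅S, S⁆ ≤ D := by
    rw [← hSsplit]
    refine commutator_sup_self_le hXD hCD ?_ le_sup_right ?_
    · exact (Subgroup.commutator_le_self X).trans le_sup_left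
    · exact ((le_normalizer_iff_commutator_le_left).mp
        (inf_le_left.trans (normalizer_commutator_ge_left S A))).trans le_sup_left
  have hDD : ⁅S ⊔ A, S ⊔ A⁆ ≤ D := by
    refine commutator_sup_self_le hSD hAD hSS ?_ le_sup_left
    rw [commutator_eq_bot_iff_le_centralizer.mpr (Subgroup.le_centralizer A)]
    exact bot_le
  have hzD : z ∈ D := mem_of_pow_mem (hDD h3)
    (c.orderOf_eq.symm ▸ (c.qprime.coprime_iff_not_dvd.mpr hidx).symm)
  have hCC : ⁅C, C⁆ ≤ fixGen A H := by
    have h1 : C ≤ fixGen A H ⊔ V := (inf_le_inf_right _ hSH).trans c.fix_le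
    refine (commutator_mono h1 h1).trans (commutator_sup_self_le le_normalizer ?_
      (Subgroup.commutator_le_self _) ?_ ?_)
    · exact (le_inf c.le c.le_fix).trans inf_centralizer_le_normalizer_fixGen
    · rw [commutator_eq_bot_iff_le_centralizer.mpr
        (c.le_cen.trans (centralizer_le c.le))]
      exact bot_le
    · rw [commutator_eq_bot_iff_le_centralizer.mpr
        ((fixGen_le c.le_normalizer).trans (le_centralizer_iff.mp c.le_cen))]
      exact bot_le
  obtain ⟨y, hy, k, hk, hyk⟩ := exists_mul_of_mem_sup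
    ((Subgroup.commutator_le_self C).trans
      (inf_le_left.trans (normalizer_commutator_ge_left S A))) hzD
  refine c.not_mem (hyk ▸ mul_mem ?_ (hCC hk))
  refine c.below S hSH hSne hxS ⟨hy, ?_⟩
  rw [show y = z * k⁻¹ by rw [← hyk]; group]
  exact (centralizer (A : Set G)).mul_mem (c.le_fix c.mem)
    ((centralizer (A : Set G)).inv_mem (fixGen_le_centralizer (hCC hk)))

end CentralCase

end Cfsg.Agent.Lib.CoprimeFlavell
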