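import Cfsg.Agent.Lib.CoprimeFlavell.Central
import Cfsg.Agent.Lib.CoprimeFlavell.AbelianQuotient

/-!
# Fixed points of commutators under coprime action: central minimal subgroup of a `q`-group
-/

set_option autoImplicit false

namespace Cfsg.Agent.Lib.CoprimeFlavell

open Subgroup
open scoped commutatorElement

universe u

variable {G : Type u} [Group G] [Finite G] {p q : ℕ} {x z : G} {H V : Subgroup G}

namespace CentralCase

theorem not_commutator_le (c : CentralCase p q x H V z) : ¬ ⁅H, H⁆ ≤ V := by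
  intro hd
  set A := zpowers x with hA
  obtain ⟨-, hsurj⟩ := abelian_quotient c.toSetting c.commutator_eq c.normal c.inv hd
  -- `σ`
  set σ : G → G := fun y => x * y * x⁻¹ with hσ
  have hσH : ∀ y ∈ H, σ y ∈ H := fun y hy =>
    (mem_normalizer_iff.mp c.mem_normalizer y).mp hy
  have hcen : ∀ t ∈ V, ∀ g ∈ H, g * t = t * g := fun t ht g hg =>
    mem_centralizer_iff.mp (c.le_cen ht) g hg
  have hfix : ∀ t ∈ V, σ t = t := fun t ht => by
    simp only [hσ]
    rw [mem_centralizer_iff.mp (c.le_fix ht) x (mem_zpowers x), mul_inv_cancel_right]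
  have hcom : ∀ a ∈ H, ∀ b ∈ H, ⁅a, b⁆ ∈ V := fun a ha b hb =>
    hd (commutator_mem_commutator ha hb)
  have hl : ∀ a ∈ H, ∀ b ∈ H, ∀ w ∈ H, ⁅a * b, w⁆ = ⁅a, w⁆ * ⁅b, w⁆ := by
    intro a ha b hb w hw
    rw [commutatorElement_mul_left_eq_conj_mul, hcen _ (hcom b hb w hw) a ha,
      mul_inv_cancel_right, ← hcen _ (hcom b hb w hw) _ (c.le (hcom a ha w hw))]
  have hr : ∀ a ∈ H, ∀ b ∈ H, ∀ w ∈ H, ⁅a, b * w⁆ = ⁅a, b⁆ * ⁅a, w⁆ := by
    intro a ha b hb w hw
    rw [show ⁅a, b * w⁆ = ⁅a, b⁆ * (b * ⁅a, w⁆ * b⁻¹) by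
      simp only [commutatorElement_def]; group,
      hcen _ (hcom a ha w hw) b hb, mul_inv_cancel_right]
  have hVone : ∀ a ∈ H, ∀ t ∈ V, ⁅a, t⁆ = 1 := fun a ha t ht =>
    commutatorElement_eq_one_iff_mul_comm.mpr (hcen t ht a ha)
  have hVone' : ∀ a ∈ H, ∀ t ∈ V, ⁅t, a⁆ = 1 := fun a ha t ht =>
    commutatorElement_eq_one_iff_mul_comm.mpr (hcen t ht a ha).symm
  -- every element commutes with its image
  have hdiag : ∀ k ∈ H, ⁅k, σ k⁆ = 1 := by
    intro k hk
    obtain ⟨h, hh, hv⟩ := hsurj k hk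
    set d := ⁅h, x⁆ with hdd
    set v := d⁻¹ * k with hvv
    have hdB : d ∈ bracket A h := commutatorElement_mem_bracket (mem_zpowers x)
    have hdH : d ∈ H :=
      c.commutator_eq.le (commutator_mem_commutator hh (mem_zpowers x))
    have hσd : σ d ∈ bracket A h :=
      Coprime.conj_mem_of_le_normalizer (le_normalizer_bracket h) (mem_zpowers x) hdB
    have hE : ⁅d, σ d⁆ = 1 := by
      have h1 : ⁅d, σ d⁆ ∈ V ⊓ fixGen A H := by
        refine ⟨hcom d hdH _ (hσH d hdH), bracket_inf_le_fixGen hh ⟨?_, ?_⟩⟩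
        · exact commutator_le_self _ (commutator_mem_commutator hdB hσd)
        · exact c.le_fix (hcom d hdH _ (hσH d hdH))
      rwa [c.inf_eq_bot, mem_bot] at h1
    have hk' : k = d * v := by rw [hvv, mul_inv_cancel_left]
    have hσk : σ k = σ d * v := by
      rw [← hfix v hv, hk']
      simp only [hσ]; group
    rw [hσk, hk', hl d hdH v (c.le hv) _ (mul_mem (hσH d hdH) (c.le hv)),
      hr d hdH _ (hσH d hdH) v (c.le hv), hE, hVone d hdH v hv,
      hVone' _ (mul_mem (hσH d hdH) (c.le hv)) v hv, one_mul, one_mul]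
  -- polarisation
  have hpol : ∀ a ∈ H, ∀ b ∈ H, ⁅a, σ b⁆ = ⁅σ a, b⁆ := by
    intro a ha b hb
    have h0 := hdiag (a * b) (mul_mem ha hb)
    have h1 : σ (a * b) = σ a * σ b := by simp only [hσ]; group
    rw [h1, hl a ha b hb _ (mul_mem (hσH a ha) (hσH b hb)), hr a ha _ (hσH a ha) _ (hσH b hb),
      hr b hb _ (hσH a ha) _ (hσH b hb), hdiag a ha, hdiag b hb, one_mul, mul_one] at h0
    rw [← commutatorElement_inv b (σ a)]
    exact eq_inv_of_mul_eq_one_left h0
  have htwo : ∀ a ∈ H, ∀ b ∈ H, ⁅a, σ (σ b)⁆ = ⁅a, b⁆ := by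
    intro a ha b hb
    rw [hpol a ha _ (hσH b hb)]
    calc ⁅σ a, σ b⁆ = σ ⁅a, b⁆ := by simp only [hσ, commutatorElement_def]; group
      _ = ⁅a, b⁆ := hfix _ (hcom a ha b hb)
  have hxN : x ^ 2 ∈ normalizer ((centralizer (H : Set G) : Subgroup G) : Set G) :=
    le_normalizer_centralizer c.le_normalizer (pow_mem (mem_zpowers x) 2)
  have hle : ⁅zpowers (x ^ 2), H⁆ ≤ centralizer (H : Set G) := by
    refine commutator_zpowers_le hxN fun b hb => mem_centralizer_iff.mpr fun a ha => ?_
    have hb' : ⁅x ^ 2, b⁆ = σ (σ b) * b⁻¹ := by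
      simp only [hσ, commutatorElement_def, pow_two]; group
    rw [hb']
    refine (commutatorElement_eq_one_iff_mul_comm.mp ?_)
    rw [hr a ha _ (hσH _ (hσH b hb)) _ (inv_mem hb), htwo a ha b hb,
      ← hr a ha b hb _ (inv_mem hb), mul_inv_cancel, commutatorElement_one_right]
  rw [c.toSetting.zpowers_sq, commutator_comm, c.commutator_eq] at hle
  haveI := le_centralizer_iff_isMulCommutative.mp hle
  have h := Coprime.inf_centralizer_inf_commutator_eq_bot c.le_normalizer c.cop'
  rw [c.commutator_eq] at h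
  have hz : z ∈ (⊥ : Subgroup G) := h ▸ ⟨⟨c.le c.mem, c.le_fix c.mem⟩, c.le c.mem⟩
  exact c.ne_one (mem_bot.mp hz)

/-- The central case is impossible. -/
theorem false' (c : CentralCase p q x H V z) : False := by
  haveI := Fact.mk c.qprime
  set A := zpowers x with hA
  have hd := c.not_commutator_le
  have hHp := c.isPGroup_H
  have hVH : ⁅V, H⁆ = ⊥ := commutator_eq_bot_iff_le_centralizer.mpr c.le_cen
  have hVA : ⁅V, A⁆ = ⊥ := commutator_eq_bot_iff_le_centralizer.mpr c.le_fix
  have hVH' : V < H := lt_of_le_of_ne c.le fun h => hd ((commutator_le_self H).trans h.ge)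
  obtain ⟨J, ⟨hVJ, hJH, hJn, hJx⟩, hJmin⟩ := Set.Finite.exists_minimal
    (s := {J : Subgroup G | V < J ∧ J ≤ H ∧ H ≤ normalizer (J : Set G) ∧
      x ∈ normalizer (J : Set G)})
    (Set.toFinite _) ⟨H, hVH', le_rfl, le_normalizer, c.mem_normalizer⟩
  have hJne : J ≠ ⊥ := fun h => not_lt_bot (h ▸ hVJ)
  have hJp : IsPGroup q J := hHp.to_le hJH
  have hmin : ∀ L : Subgroup G, V ≤ L → L ≤ J → H ≤ normalizer (L : Set G) →
      x ∈ normalizer (L : Set G) → L = V ∨ L = J := fun L h1 h2 h3 h4 =>
    or_iff_not_imp_left.mpr fun hne => le_antisymm h2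
      (hJmin ⟨lt_of_le_of_ne h1 (Ne.symm hne), h2.trans hJH, h3, h4⟩ h2)
  have hJHV : ⁅J, H⁆ ≤ V := by
    have hlt := Coprime.commutator_lt_of_isPGroup hJp hHp hJn hJne
    have hLn : H ≤ normalizer ((⁅J, H⁆ ⊔ V : Subgroup G) : Set G) :=
      le_normalizer_sup (normalizer_commutator_ge_right J H) c.normal
    have hLx : x ∈ normalizer ((⁅J, H⁆ ⊔ V : Subgroup G) : Set G) :=
      le_normalizer_sup (Coprime.le_normalizer_commutator (zpowers_le.mpr hJx) c.le_normalizer)
        (zpowers_le.mpr c.inv) (mem_zpowers x)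
    rcases hmin _ le_sup_right (sup_le hlt.le hVJ.le) hLn hLx with h | h
    · exact le_sup_left.trans h.le
    · exfalso
      have h1 : ⁅J, H⁆ ≤ ⁅⁅J, H⁆, H⁆ := by
        conv_lhs => rw [← h]
        refine commutator_sup_left_le ((hlt.le.trans hJH).trans (normalizer_commutator_ge_right _ _))
          (c.le.trans (normalizer_commutator_ge_right _ _)) le_rfl ?_
        rw [hVH]; exact bot_le
      have h2 : ⁅J, H⁆ = ⊥ := by
        by_contra hne
        exact lt_irrefl _ (lt_of_le_of_lt h1 (Coprime.commutator_lt_of_isPGroup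
          (hJp.to_le hlt.le) hHp (normalizer_commutator_ge_right J H) hne))
      rw [h2, bot_sup_eq] at h
      exact hVJ.ne h
  have hJneH : J ≠ H := fun h => hd (h ▸ hJHV)
  set X := ⁅J, A⁆ with hX
  have hAJ : A ≤ normalizer (J : Set G) := zpowers_le.mpr hJx
  have hXJ : X ≤ J := Coprime.commutator_le_of_le_normalizer hAJ
  by_cases hXV : X ≤ V
  · -- `J` would be central and fixed
    have hJcen : J ≤ centralizer (H : Set G) := by
      have h1 : ⁅⁅H, A⁆, J⁆ = ⊥ := by
        refine commutator_commutator_eq_bot_of_rotate ?_ ?_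
        · rw [commutator_comm A J, eq_bot_iff, ← hVH]
          exact commutator_mono hXV le_rfl
        · rw [eq_bot_iff, ← hVA]
          exact commutator_mono hJHV le_rfl
      rw [c.commutator_eq, commutator_eq_bot_iff_le_centralizer] at h1
      exact le_centralizer_iff.mp h1
    have hJC : J ≤ centralizer (A : Set G) :=
      le_centralizer_iff.mp (Coprime.le_centralizer_of_commutator_le_centralizer
        (hXV.trans c.le_fix) (Coprime.coprime_of_le_right (hXJ.trans hJH) c.cop'))
    obtain ⟨j, hj, hjV⟩ := SetLike.not_le_iff_exists.mp hVJ.not_ge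
    obtain ⟨k, hk, v, hv, hkv⟩ := exists_mul_of_mem_sup
      ((le_inf c.le c.le_fix).trans inf_centralizer_le_normalizer_fixGen)
      (c.fix_le ⟨hJH hj, hJC hj⟩)
    have hk1 : k ≠ 1 := fun h => hjV (by rw [← hkv, h, one_mul]; exact hv)
    have hkH : k ∈ centralizer (H : Set G) := by
      rw [show k = j * v⁻¹ by rw [← hkv]; group]
      exact mul_mem (hJcen hj) (inv_mem (c.le_cen hv))
    exact c.contradiction (N := zpowers k) (fun h => hk1 (zpowers_eq_bot.mp h))
      (zpowers_le.mpr (fixGen_le c.le_normalizer hk))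
      (le_normalizer_of_le_centralizer (le_centralizer_iff.mp (zpowers_le.mpr hkH)))
      (le_normalizer_of_le_centralizer (le_centralizer_iff.mp
        (zpowers_le.mpr (fixGen_le_centralizer hk))) (mem_zpowers x))
      (inf_le_left.trans (zpowers_le.mpr hk))
  have hXne : X ≠ ⊥ := fun h => hXV (h ▸ bot_le)
  -- `J = X ⊔ V`
  have hJXV : X ⊔ V = J := by
    refine (hmin _ le_sup_right (sup_le hXJ hVJ.le) ?_ ?_).resolve_left
      fun h => hXV (le_sup_left.trans h.le)
    · rw [le_normalizer_iff_commutator_le_left]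
      exact ((commutator_mono (sup_le hXJ hVJ.le) le_rfl).trans hJHV).trans le_sup_right
    · exact le_normalizer_sup (normalizer_commutator_ge_right J A) (zpowers_le.mpr c.inv)
        (mem_zpowers x)
  have hz_not : ∀ Y : Subgroup G, Y ≤ H → Y ≠ H → x ∈ normalizer (Y : Set G) →
      z ∉ ⁅Y, A⁆ := fun Y h1 h2 h3 h4 => c.not_mem (c.below Y h1 h2 h3 ⟨h4, c.le_fix c.mem⟩)
  have hJab : ⁅J, J⁆ = ⊥ := by
    by_contra hne
    have h1 : ⁅J, J⁆ ≤ ⁅X, X⁆ := by
      have hn1 : X ≤ normalizer ((⁅X, X⁆ : Subgroup G) : Set G) := normalizer_commutator_ge_left X X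
      have hn2 : V ≤ normalizer ((⁅X, X⁆ : Subgroup G) : Set G) :=
        le_normalizer_of_le_centralizer
          (c.le_cen.trans (centralizer_le ((commutator_le_self X).trans (hXJ.trans hJH))))
      conv_lhs => rw [← hJXV]
      refine commutator_sup_self_le hn1 hn2 le_rfl ?_ ?_
      · exact (commutator_mono le_rfl c.le).trans (hVH.le.trans bot_le)
      · rw [commutator_comm]
        exact (commutator_mono le_rfl (hXJ.trans hJH)).trans (hVH.le.trans bot_le)
    have h2 : z ∈ ⁅J, J⁆ := c.mem_of_ne_bot ((commutator_mono le_rfl hJH).trans hJHV) hne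
    exact hz_not J hJH hJneH hJx ((commutator_le_self X) (h1 h2))
  haveI : IsMulCommutative J :=
    le_centralizer_iff_isMulCommutative.mp (commutator_eq_bot_iff_le_centralizer.mp hJab)
  have hXC : X ⊓ centralizer (A : Set G) = ⊥ := by
    rw [eq_bot_iff, ← Coprime.inf_centralizer_inf_commutator_eq_bot hAJ
      (Coprime.coprime_of_le_right hJH c.cop')]
    exact le_inf (inf_le_inf_right _ hXJ) inf_le_left
  by_cases hXcen : X ≤ centralizer (H : Set G)
  · exact c.contradiction hXne (hXJ.trans hJH)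
      (le_normalizer_of_le_centralizer (le_centralizer_iff.mp hXcen))
      (normalizer_commutator_ge_right J A (mem_zpowers x)) (hXC ▸ bot_le)
  -- some bracket does not centralise `J`
  obtain ⟨h, hh, hB⟩ : ∃ h ∈ H, ¬ bracket A h ≤ centralizer (J : Set G) := by
    by_contra hall
    push Not at hall
    apply hXcen
    refine hXJ.trans (le_centralizer_iff.mp ?_)
    rw [← c.commutator_eq, commutator_le]
    exact fun g hg a ha => hall g hg (commutatorElement_mem_bracket ha)
  set B := bracket A h with hBdef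
  have hBH : B ≤ H := (bracket_le_commutator hh).trans c.commutator_eq.le
  have hAB : A ≤ normalizer (B : Set G) := le_normalizer_bracket h
  have hfixJ : H ⊓ centralizer (A : Set G) ≤ centralizer (J : Set G) := by
    rw [le_centralizer_iff, ← hJXV]
    refine sup_le ?_ (c.le_cen.trans (centralizer_le inf_le_left))
    rw [← commutator_eq_bot_iff_le_centralizer]
    refine commutator_commutator_eq_bot_of_rotate ?_ ?_
    · rw [commutator_comm A, commutator_eq_bot_iff_le_centralizer.mpr inf_le_right]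
      exact commutator_bot_left _
    · rw [eq_bot_iff, ← hVA, commutator_comm (H ⊓ centralizer (A : Set G)) J]
      exact commutator_mono ((commutator_mono le_rfl inf_le_left).trans hJHV) le_rfl
  have hBA : ¬ ⁅B, A⁆ ≤ centralizer (J : Set G) := by
    intro hle
    apply hB
    conv_lhs => rw [← Coprime.commutator_sup_centralizer hAB (Coprime.coprime_of_le_right
      ((Coprime.commutator_le_of_le_normalizer hAB).trans hBH) c.cop') (Or.inl c.solv_zpowers)]
    exact sup_le hle ((inf_le_inf_right _ hBH).trans hfixJ)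
  set Y := J ⊔ B with hYdef
  have hYH : Y ≤ H := sup_le hJH hBH
  have hYx : x ∈ normalizer (Y : Set G) := le_normalizer_sup hAJ hAB (mem_zpowers x)
  have hzY : z ∈ ⁅Y, A⁆ := by
    have hne : ⁅J, ⁅B, A⁆⁆ ≠ ⊥ := fun h0 =>
      hBA (le_centralizer_iff.mp (commutator_eq_bot_iff_le_centralizer.mp h0))
    refine commutator_le_commutator_of_le (A := A) le_sup_left
      (commutator_mono (le_sup_right : B ≤ Y) le_rfl) (c.mem_of_ne_bot ?_ hne)
    exact (commutator_mono le_rfl ((Coprime.commutator_le_of_le_normalizer hAB).trans hBH)).trans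
      hJHV
  have hY : Y = H := by_contra fun hne => hz_not Y hYH hne hYx hzY
  have hJJ : J ≤ centralizer (J : Set G) := le_centralizer J
  have hBJ : B ⊓ J = ⊥ := by
    by_contra hne
    refine c.contradiction hne (inf_le_right.trans hJH) ?_
      (le_normalizer_inf hAB hAJ (mem_zpowers x))
      ((inf_le_inf_right _ inf_le_left).trans (bracket_inf_le_fixGen hh))
    rw [← hY]
    exact sup_le (le_normalizer_of_le_centralizer (hJJ.trans (centralizer_le inf_le_right)))
      (le_normalizer_inf le_normalizer (hBH.trans hJn))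
  have hBC : B ⊓ centralizer (J : Set G) = ⊥ := by
    by_contra hne
    refine c.contradiction hne (inf_le_left.trans hBH) ?_
      (le_normalizer_inf hAB (le_normalizer_centralizer hAJ) (mem_zpowers x))
      ((inf_le_inf_right _ inf_le_left).trans (bracket_inf_le_fixGen hh))
    rw [← hY]
    exact sup_le (le_normalizer_of_le_centralizer (le_centralizer_iff.mp inf_le_right))
      (le_normalizer_inf le_normalizer (le_normalizer_centralizer (hBH.trans hJn)))
  have hBab : ⁅B, B⁆ = ⊥ := by
    rw [eq_bot_iff, ← hBC]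
    refine le_inf (commutator_le_self B) (commutator_eq_bot_iff_le_centralizer.mp ?_)
    refine commutator_commutator_eq_bot_of_rotate ?_ ?_
    · rw [eq_bot_iff, ← hVH]
      exact commutator_mono ((commutator_comm B J).le.trans
        ((commutator_mono le_rfl hBH).trans hJHV)) hBH
    · rw [eq_bot_iff, ← hVH]
      exact commutator_mono ((commutator_mono le_rfl hBH).trans hJHV) hBH
  apply hd
  rw [← hY]
  exact commutator_sup_self_le (hJH.trans c.normal) (hBH.trans c.normal)
    (hJab ▸ bot_le) (hBab ▸ bot_le) ((commutator_mono le_rfl hBH).trans hJHV)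

end CentralCase

end Cfsg.Agent.Lib.CoprimeFlavell
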