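import Cfsg.Agent.Lib.CoprimeFlavell.Basic

/-!
# Fixed points of commutators under coprime action: the critical configuration
-/

set_option autoImplicit false

namespace Cfsg.Agent.Lib.CoprimeFlavell

open Subgroup
open scoped commutatorElement

universe u

variable {G : Type u} [Group G] [Finite G] {p q : ℕ} {x : G} {H V N : Subgroup G}

/-- The statement for all groups of order less than `n`. -/
def Below (p n : ℕ) : Prop :=
  ∀ (Δ : Type u) [Group Δ] [Finite Δ] (y : Δ) (K : Subgroup Δ),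
    Setting p y K → Nat.card K < n → Holds y K

omit [Finite G] in
theorem Setting.map {G' : Type*} [Group G'] (f : G →* G') (s : Setting p x H) :
    Setting p (f x) (H.map f) where
  prime := s.prime
  ne_two := s.ne_two
  pow_eq := by rw [← map_pow, s.pow_eq, map_one]
  mem_normalizer := le_normalizer_map f ⟨x, s.mem_normalizer, rfl⟩
  solv := by
    haveI := s.solv
    exact Group.isSolvable_of_surjective (f.subgroupMap_surjective H)
  cop := s.cop.coprime_dvd_left (card_map_dvd H f)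

omit [Finite G] in
theorem Setting.subgroupOf {M : Subgroup G} (s : Setting p x H) (hx : x ∈ M) (hH : H ≤ M) :
    Setting p (⟨x, hx⟩ : M) (H.subgroupOf M) where
  prime := s.prime
  ne_two := s.ne_two
  pow_eq := Subtype.ext s.pow_eq
  mem_normalizer := mem_normalizer_iff.mpr fun y => mem_normalizer_iff.mp s.mem_normalizer y
  solv := by
    haveI := s.solv
    exact Group.isSolvable_of_isSolvable_injective
      (f := (subgroupOfEquivOfLe hH).toMonoidHom) (subgroupOfEquivOfLe hH).injective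
  cop := by rw [Nat.card_congr (subgroupOfEquivOfLe hH).toEquiv]; exact s.cop

omit [Finite G] in
theorem map_subtype_zpowers {M : Subgroup G} (hx : x ∈ M) :
    (zpowers (⟨x, hx⟩ : M)).map M.subtype = zpowers x :=
  MonoidHom.map_zpowers _ _

omit [Finite G] in
theorem commutator_subgroupOf {M : Subgroup G} (hx : x ∈ M) (hH : H ≤ M)
    (hcomm : ⁅H, zpowers x⁆ = H) :
    ⁅H.subgroupOf M, zpowers (⟨x, hx⟩ : M)⁆ = H.subgroupOf M := by
  refine map_injective M.subtype_injective ?_
  rw [map_commutator, map_subgroupOf_eq_of_le hH, map_subtype_zpowers hx, hcomm]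

/-- The theorem for smaller groups, applied to a quotient. -/
theorem inf_centralizer_le_fixGen_sup (s : Setting p x H) (ih : Below.{u} p (Nat.card H))
    (hcomm : ⁅H, zpowers x⁆ = H) (hne : N ≠ ⊥) (hNH : N ≤ H)
    (hHN : H ≤ normalizer (N : Set G)) (hxN : x ∈ normalizer (N : Set G)) :
    H ⊓ centralizer (zpowers x : Set G) ≤
      fixGen (zpowers x) H ⊔ (N ⊓ centralizer (zpowers x : Set G)) := by
  set M := normalizer (N : Set G) with hM
  set x' : M := ⟨x, hxN⟩ with hx'
  set H' := H.subgroupOf M with hH'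
  set f := QuotientGroup.mk' (N.subgroupOf M) with hf
  have s' : Setting p x' H' := s.subgroupOf hxN hHN
  have hlt : Nat.card (H'.map f) < Nat.card H := by
    rw [← Nat.card_congr (subgroupOfEquivOfLe hHN).toEquiv]
    refine lt_of_le_of_ne (Nat.le_of_dvd Nat.card_pos (card_map_dvd H' f)) fun he => hne ?_
    have hbij : Function.Bijective (f.subgroupMap H') :=
      (Nat.bijective_iff_surjective_and_card _).mpr ⟨f.subgroupMap_surjective H', he.symm⟩
    refine eq_bot_iff.mpr fun n hn => mem_bot.mpr ?_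
    have h1 : f.subgroupMap H' ⟨⟨n, hHN (hNH hn)⟩, hNH hn⟩ = 1 :=
      Subtype.ext ((QuotientGroup.eq_one_iff _).mpr hn)
    have h2 := hbij.1 (h1.trans (map_one _).symm)
    simpa using congrArg (fun w : H' => ((w : M) : G)) h2
  have key := ih _ (f x') (H'.map f) (s'.map f) hlt
  rw [Holds, ← MonoidHom.map_zpowers, ← map_commutator, commutator_subgroupOf hxN hHN hcomm] at key
  rintro h ⟨hhH, hhC⟩
  set h' : M := ⟨h, hHN hhH⟩ with hh'
  have hmem : f h' ∈ fixGen ((zpowers x').map f) (H'.map f) := by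
    refine key ⟨⟨h', hhH, rfl⟩, mem_centralizer_iff.mpr ?_⟩
    rintro _ ⟨a, ha, rfl⟩
    have ha' : (a : G) ∈ zpowers x := map_subtype_zpowers hxN ▸ ⟨a, ha, rfl⟩
    rw [← map_mul, ← map_mul]
    exact congrArg f (Subtype.ext (mem_centralizer_iff.mp hhC _ ha'))
  obtain ⟨k, hk, hkf⟩ :=
    fixGen_map_le f s'.le_normalizer s'.cop' s'.solv_zpowers hmem
  have hkK : (k : G) ∈ fixGen (zpowers x) H := by
    have h1 : (k : G) ∈ fixGen ((zpowers x').map M.subtype) (H'.map M.subtype) :=
      map_fixGen_le M.subtype ⟨k, hk, rfl⟩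
    rwa [hx', map_subtype_zpowers hxN, hH', map_subgroupOf_eq_of_le hHN] at h1
  have hN : k⁻¹ * h' ∈ N.subgroupOf M := QuotientGroup.eq.mp hkf
  rw [show h = (k : G) * ((k : G)⁻¹ * h) by group]
  exact mul_mem_sup hkK ⟨hN, (centralizer (zpowers x : Set G)).mul_mem
    ((centralizer (zpowers x : Set G)).inv_mem (fixGen_le_centralizer hkK)) hhC⟩

/-- The configuration of a minimal counterexample. -/
structure Critical (p q : ℕ) (x : G) (H V : Subgroup G) : Prop extends Setting p x H where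
  below : ∀ K ≤ H, K ≠ H → x ∈ normalizer (K : Set G) →
    ⁅K, zpowers x⁆ ⊓ centralizer (zpowers x : Set G) ≤ fixGen (zpowers x) H
  commutator_eq : ⁅H, zpowers x⁆ = H
  key : ∀ N : Subgroup G, N ≠ ⊥ → N ≤ H → H ≤ normalizer (N : Set G) →
    x ∈ normalizer (N : Set G) → H ⊓ centralizer (zpowers x : Set G) ≤
      fixGen (zpowers x) H ⊔ (N ⊓ centralizer (zpowers x : Set G))
  qprime : q.Prime
  le : V ≤ H
  ne_bot : V ≠ ⊥
  comm : IsMulCommutative V
  pow_q : ∀ v ∈ V, v ^ q = 1
  normal : H ≤ normalizer (V : Set G)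
  inv : x ∈ normalizer (V : Set G)
  minimal : ∀ N ≤ V, H ≤ normalizer (N : Set G) → x ∈ normalizer (N : Set G) → N = ⊥ ∨ N = V
  not_le : ¬ V ⊓ centralizer (zpowers x : Set G) ≤ fixGen (zpowers x) H

namespace Critical

theorem isPGroup (c : Critical p q x H V) : IsPGroup q V :=
  fun v => ⟨1, Subtype.ext (by simpa using c.pow_q v v.2)⟩

/-- A nontrivial normal invariant subgroup has fixed points outside `fixGen`. -/
theorem contradiction (c : Critical p q x H V) {N : Subgroup G} (hne : N ≠ ⊥) (hNH : N ≤ H)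
    (hHN : H ≤ normalizer (N : Set G)) (hxN : x ∈ normalizer (N : Set G))
    (hle : N ⊓ centralizer (zpowers x : Set G) ≤ fixGen (zpowers x) H) : False :=
  c.not_le ((inf_le_inf_right _ c.le).trans ((c.key N hne hNH hHN hxN).trans (sup_le le_rfl hle)))

theorem ne_q (c : Critical p q x H V) : q ≠ p := by
  intro h
  obtain ⟨⟨v, hv⟩, hv1⟩ := Subgroup.ne_bot_iff_exists_ne_one.mp c.ne_bot
  have h1 : orderOf v ∣ q := orderOf_dvd_of_pow_eq_one (c.pow_q v hv)
  have h2 : orderOf v ∣ Nat.card H := H.orderOf_dvd_natCard (c.le hv)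
  exact hv1 (Subtype.ext (orderOf_eq_one_iff.mp (Nat.eq_one_of_dvd_coprimes c.cop h2 (h ▸ h1))))

end Critical

theorem exists_minimal_invariant (s : Setting p x H) (hne : H ≠ ⊥) :
    ∃ (q : ℕ) (V : Subgroup G), q.Prime ∧ V ≤ H ∧ V ≠ ⊥ ∧ IsMulCommutative V ∧
      (∀ v ∈ V, v ^ q = 1) ∧ H ≤ normalizer (V : Set G) ∧ x ∈ normalizer (V : Set G) ∧
      ∀ N ≤ V, H ≤ normalizer (N : Set G) → x ∈ normalizer (N : Set G) → N = ⊥ ∨ N = V := by
  obtain ⟨V, ⟨hVH, hV0, hn, hx⟩, hmin⟩ := Set.Finite.exists_minimal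
    (s := {N : Subgroup G | N ≤ H ∧ N ≠ ⊥ ∧ H ≤ normalizer (N : Set G) ∧
      x ∈ normalizer (N : Set G)})
    (Set.toFinite _) ⟨H, le_rfl, hne, le_normalizer, s.mem_normalizer⟩
  have hmin' : ∀ N ≤ V, H ≤ normalizer (N : Set G) → x ∈ normalizer (N : Set G) →
      N = ⊥ ∨ N = V := fun N hN h1 h2 => or_iff_not_imp_left.mpr fun h0 =>
    le_antisymm hN (hmin ⟨hN.trans hVH, h0, h1, h2⟩ hN)
  have hsolv := Coprime.isSolvable_of_le hVH s.solv
  have habel : IsMulCommutative V := by
    rcases hmin' ⁅V, V⁆ (Subgroup.commutator_le_self V) (Coprime.le_normalizer_commutator hn hn)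
      (Coprime.le_normalizer_commutator (zpowers_le.mpr hx) (zpowers_le.mpr hx) (mem_zpowers x))
      with h | h
    · rw [commutator_eq_bot_iff_le_centralizer] at h
      exact le_centralizer_iff_isMulCommutative.mp h
    · exfalso
      haveI := hsolv
      haveI : Nontrivial V := (nontrivial_iff_ne_bot V).mpr hV0
      refine (Group.IsSolvable.commutator_lt_top_of_nontrivial V).ne ?_
      refine map_injective V.subtype_injective ?_
      rw [map_subtype_commutator, h, ← MonoidHom.range_eq_map, range_subtype]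
  obtain ⟨q, hq, hqd⟩ := Nat.exists_prime_and_dvd
    (fun h => hV0 (card_eq_one.mp h) : Nat.card V ≠ 1)
  haveI := Fact.mk hq
  obtain ⟨v₀, hv₀⟩ := exists_prime_orderOf_dvd_card' q hqd
  have hcomm : ∀ a ∈ V, ∀ b ∈ V, Commute a b := fun a ha b hb =>
    congrArg Subtype.val (mul_comm' (⟨a, ha⟩ : V) ⟨b, hb⟩)
  let U : Subgroup G :=
    { carrier := {v | v ∈ V ∧ v ^ q = 1}
      one_mem' := ⟨one_mem V, one_pow q⟩
      mul_mem' := fun {a b} ha hb =>
        ⟨mul_mem ha.1 hb.1, by rw [(hcomm a ha.1 b hb.1).mul_pow, ha.2, hb.2, one_mul]⟩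
      inv_mem' := fun {a} ha => ⟨inv_mem ha.1, by rw [inv_pow, ha.2, inv_one]⟩ }
  have hUn : ∀ L : Subgroup G, L ≤ normalizer (V : Set G) → L ≤ normalizer (U : Set G) :=
    fun L hL => Coprime.le_normalizer_of_conj_mem fun l hl y hy =>
      ⟨Coprime.conj_mem_of_le_normalizer hL hl hy.1, by rw [conj_pow, hy.2]; group⟩
  have hUV : U = V := by
    refine (hmin' U (fun y hy => hy.1) (hUn H hn)
      (hUn _ (zpowers_le.mpr hx) (mem_zpowers x))).resolve_left fun h => ?_
    have h1 : (v₀ : G) ∈ U := ⟨v₀.2, by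
      rw [← SubmonoidClass.coe_pow, ← hv₀, pow_orderOf_eq_one]; rfl⟩
    rw [h, mem_bot] at h1
    rw [← Subgroup.orderOf_coe, h1, orderOf_one] at hv₀
    exact hq.ne_one hv₀.symm
  exact ⟨q, V, hq, hVH, hV0, habel, fun v hv => (hUV.symm ▸ hv : v ∈ U).2, hn, hx, hmin'⟩

omit [Finite G] in
theorem mem_of_pow_mem {y : G} {K : Subgroup G} {n : ℕ} (h : y ^ n ∈ K)
    (hco : n.Coprime (orderOf y)) : y ∈ K := by
  obtain ⟨m, hm⟩ := exists_pow_eq_self_of_coprime hco
  rw [← hm]
  exact pow_mem h m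

end Cfsg.Agent.Lib.CoprimeFlavell
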