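import Cfsg.Agent.Lib.CoprimeFlavell.Critical

/-!
# Fixed points of commutators under coprime action: invariant subgroups of prime power order
generating `H = ⁅H, x⁆`
-/

set_option autoImplicit false

namespace Cfsg.Agent.Lib.CoprimeFlavell

open Subgroup
open scoped commutatorElement

universe u

variable {G : Type u} [Group G] [Finite G] {p : ℕ} {x : G} {H : Subgroup G}

/-- The invariant subgroups `R = ⁅R, x⁆` of prime power order. -/
def primaryPieces (x : G) (H : Subgroup G) : Set (Subgroup G) :=
  {R | R ≤ H ∧ x ∈ normalizer (R : Set G) ∧ (∃ r : ℕ, r.Prime ∧ IsPGroup r R) ∧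
    ⁅R, zpowers x⁆ = R}

omit [Finite G] in
theorem map_conj_zpowers {c : G} (hc : c ∈ centralizer (zpowers x : Set G)) :
    (zpowers x).map (MulAut.conj c).toMonoidHom = zpowers x := by
  rw [MonoidHom.map_zpowers]
  change zpowers (c * x * c⁻¹) = _
  rw [← mem_centralizer_iff.mp hc x (mem_zpowers x), mul_inv_cancel_right]

theorem sSup_primaryPieces (s : Setting p x H) (hcomm : ⁅H, zpowers x⁆ = H) :
    sSup (primaryPieces x H) = H := by
  set A := zpowers x with hA
  set L := sSup (primaryPieces x H) with hL
  set C := H ⊓ centralizer (A : Set G) with hC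
  have hLH : L ≤ H := sSup_le fun R hR => hR.1
  have hAL : A ≤ normalizer (L : Set G) := by
    refine Coprime.le_normalizer_of_conj_mem fun a ha y hy => ?_
    have key : L.map (MulAut.conj a).toMonoidHom ≤ L := by
      rw [hL, map_le_iff_le_comap]
      refine sSup_le fun R hR z hz => mem_comap.mpr (le_sSup hR ?_)
      exact Coprime.conj_mem_of_le_normalizer (zpowers_le.mpr hR.2.1) ha hz
    exact key ⟨y, hy, rfl⟩
  have hCL : C ≤ normalizer (L : Set G) := by
    refine Coprime.le_normalizer_of_conj_mem fun c hc y hy => ?_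
    have key : L.map (MulAut.conj c).toMonoidHom ≤ L := by
      rw [hL, map_le_iff_le_comap]
      refine sSup_le fun R hR => map_le_iff_le_comap.mp (le_sSup ?_)
      refine ⟨?_, ?_, ?_, ?_⟩
      · rintro _ ⟨z, hz, rfl⟩
        exact mul_mem (mul_mem hc.1 (hR.1 hz)) (inv_mem hc.1)
      · refine le_normalizer_map _ ⟨x, hR.2.1, ?_⟩
        change c * x * c⁻¹ = x
        rw [← mem_centralizer_iff.mp hc.2 x (mem_zpowers x), mul_inv_cancel_right]
      · obtain ⟨r, hr, hRr⟩ := hR.2.2.1
        exact ⟨r, hr, hRr.map _⟩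
      · conv_lhs => rw [← map_conj_zpowers hc.2, ← map_commutator, hR.2.2.2]
    exact key ⟨y, hy, rfl⟩
  have hsup : L ⊔ C = H := by
    refine le_antisymm (sup_le hLH inf_le_left) ?_
    have hdvd : Nat.card H ∣ Nat.card ↥(L ⊔ C) := by
      rw [Nat.dvd_iff_prime_pow_dvd_dvd]
      intro r k hr hrk
      haveI := Fact.mk hr
      obtain ⟨P, hP⟩ := Coprime.exists_invariant_sylow (p := r) s.le_normalizer s.cop'
        (Or.inl s.solv_zpowers)
      refine (P.pow_dvd_card_of_pow_dvd_card hrk).trans ?_
      rw [← card_map_of_injective H.subtype_injective]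
      refine card_dvd_of_le ?_
      set S := (P : Subgroup H).map H.subtype with hS
      have hSH : S ≤ H := map_subtype_le _
      have hcop : (Nat.card A).Coprime (Nat.card ↥⁅S, A⁆) := Coprime.coprime_of_le_right
        ((Coprime.commutator_le_of_le_normalizer hP).trans hSH) s.cop'
      conv_lhs => rw [← Coprime.commutator_sup_centralizer hP hcop (Or.inl s.solv_zpowers)]
      refine sup_le_sup (le_sSup ?_) (inf_le_inf_right _ hSH)
      exact ⟨(Coprime.commutator_le_of_le_normalizer hP).trans hSH,
        normalizer_commutator_ge_right S A (mem_zpowers x),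
        ⟨r, hr, (P.2.map _).to_le (Coprime.commutator_le_of_le_normalizer hP)⟩,
        Coprime.commutator_commutator_eq hP hcop⟩
    exact (eq_of_le_of_card_ge (sup_le hLH inf_le_left) (Nat.le_of_dvd Nat.card_pos hdvd)).ge
  refine le_antisymm hLH ?_
  conv_lhs => rw [← hcomm, ← hsup]
  refine commutator_sup_left_le le_normalizer hCL
    (Coprime.commutator_le_of_le_normalizer hAL) ?_
  rw [commutator_eq_bot_iff_le_centralizer.mpr inf_le_right]
  exact bot_le

end Cfsg.Agent.Lib.CoprimeFlavell
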