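import Cfsg.Agent.Lib.CoprimeFlavell.Norm
import Cfsg.Agent.Lib.CoprimeFlavell.Generators
import Cfsg.Agent.Lib.Wielandt.Internal

/-!
# Fixed points of commutators under coprime action: the minimal subgroup is not central
-/

set_option autoImplicit false

namespace Cfsg.Agent.Lib.CoprimeFlavell

open Subgroup
open scoped commutatorElement

universe u

variable {G : Type u} [Group G] [Finite G] {p q : ℕ} {x : G} {H V R : Subgroup G}

theorem mem_centralizer_zpowers {a v : G} (h : a * v = v * a) :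
    v ∈ centralizer (zpowers a : Set G) := by
  refine mem_centralizer_iff.mpr fun g hg => ?_
  obtain ⟨i, rfl⟩ := mem_zpowers_iff.mp hg
  exact Commute.zpow_left h i

theorem card_sup_dvd {B : Subgroup G} (h : B ≤ normalizer (R : Set G)) :
    Nat.card ↥(R ⊔ B) ∣ Nat.card R * Nat.card B := by
  set M := R ⊔ B with hM
  haveI : (R.subgroupOf M).Normal :=
    normal_subgroupOf_of_le_normalizer (sup_le le_normalizer h)
  have hsup : B.subgroupOf M ⊔ R.subgroupOf M = ⊤ := by
    rw [← subgroupOf_sup le_sup_right le_sup_left, sup_comm, subgroupOf_self]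
  rw [← card_mul_index (R.subgroupOf M),
    Nat.card_congr (subgroupOfEquivOfLe (le_sup_left : R ≤ M)).toEquiv]
  refine Nat.mul_dvd_mul_left _ ?_
  rw [← relIndex_top_right, ← hsup, relIndex_sup_right]
  refine dvd_trans (relIndex_dvd_card _ _) ?_
  rw [Nat.card_congr (subgroupOfEquivOfLe (le_sup_right : B ≤ M)).toEquiv]

/-- A subgroup `R₁ ≤ R` with `V ⊔ R₁ ⊇ R` and `R ⊓ V = ⊥` is all of `R`. -/
theorem eq_of_le_sup (hn : R ≤ normalizer (V : Set G)) (hbot : R ⊓ V = ⊥) {R₁ : Subgroup G}
    (hle : R₁ ≤ R) (h : R ≤ V ⊔ R₁) : R₁ = R := by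
  refine le_antisymm hle fun g hg => ?_
  obtain ⟨v, hv, r, hr, rfl⟩ := exists_mul_of_mem_sup (hle.trans hn) (h hg)
  have hv' : v ∈ R ⊓ V := ⟨by
    rw [show v = v * r * r⁻¹ by group]
    exact R.mul_mem hg (R.inv_mem (hle hr)), hv⟩
  rw [hbot, mem_bot] at hv'
  rw [hv', one_mul]; exact hr

namespace Critical

/-- What is left when the minimal subgroup `V` is not central. -/
theorem exists_kernel_complement (c : Critical p q x H V)
    (hVH : ¬ V ≤ centralizer (H : Set G)) :
    ∃ R : Subgroup G, R ≤ H ∧ x ∈ normalizer (R : Set G) ∧ ⁅R, zpowers x⁆ = R ∧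
      (∃ r : ℕ, r.Prime ∧ r ≠ q ∧ IsPGroup r R) ∧ V ⊔ R = H ∧
      R ⊓ centralizer (V : Set G) = ⊥ ∧ R ⊓ V = ⊥ ∧
      V ⊓ centralizer (R : Set G) = ⊥ := by
  haveI := c.comm
  haveI := Fact.mk c.qprime
  set A := zpowers x with hA
  have hAV : A ≤ normalizer (V : Set G) := zpowers_le.mpr c.inv
  have hVV : V ≤ centralizer (V : Set G) := le_centralizer V
  have hVfull : ⁅V, H⁆ = V := by
    refine (c.minimal _ (le_normalizer_iff_commutator_le_left.mp c.normal)
      (normalizer_commutator_ge_right V H)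
      (Coprime.le_normalizer_commutator hAV c.le_normalizer (mem_zpowers x))).resolve_left ?_
    exact fun h => hVH (commutator_eq_bot_iff_le_centralizer.mp h)
  have hVcen : V ⊓ centralizer (H : Set G) = ⊥ := by
    refine (c.minimal _ inf_le_left
      (le_normalizer_of_le_centralizer (le_centralizer_iff.mp inf_le_right))
      (le_normalizer_inf hAV (le_normalizer_centralizer c.le_normalizer)
        (mem_zpowers x))).resolve_right fun h => hVH (inf_eq_left.mp h)
  obtain ⟨R, hR, hVR⟩ : ∃ R ∈ primaryPieces x H, V ⊔ R = H := by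
    by_contra hall
    push Not at hall
    refine c.false_of_le_normPreimage hAV ?_
    conv_lhs => rw [← hVfull, ← sSup_primaryPieces c.toSetting c.commutator_eq]
    exact c.commutator_le_of_generators (normPreimage_le hAV) fun L hL =>
      ⟨hL.1, c.commutator_le_normPreimage hAV hL.1 hL.2.1 hL.2.2.2 (hall L hL)⟩
  obtain ⟨hRH, hRx, ⟨r, hr, hRr⟩, hRA⟩ := hR
  haveI := Fact.mk hr
  have hrq : r ≠ q := by
    rintro rfl
    have hHp : IsPGroup r H := hVR ▸ c.isPGroup.to_sup_of_normal_left' hRr (hRH.trans c.normal)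
    exact (Coprime.commutator_lt_of_isPGroup c.isPGroup hHp c.normal c.ne_bot).ne hVfull
  have hRV : R ⊓ V = ⊥ := (IsPGroup.disjoint_of_ne r q hrq R V hRr c.isPGroup).eq_bot
  have hfaith : R ⊓ centralizer (V : Set G) = ⊥ := by
    by_contra hne
    set N := R ⊓ centralizer (V : Set G) with hN
    have hNn : H ≤ normalizer (N : Set G) := by
      rw [← hVR]
      exact sup_le (le_normalizer_of_le_centralizer (le_centralizer_iff.mp inf_le_right))
        (le_normalizer_inf le_normalizer (le_normalizer_centralizer (hRH.trans c.normal)))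
    have hNx : x ∈ normalizer (N : Set G) :=
      le_normalizer_inf (zpowers_le.mpr hRx) (le_normalizer_centralizer hAV) (mem_zpowers x)
    refine c.not_le fun v hv => ?_
    obtain ⟨k, hk, n, hn, hkn⟩ := exists_mul_of_mem_sup
      ((le_inf (inf_le_left.trans (inf_le_left.trans hRH)) inf_le_right :
          N ⊓ centralizer (A : Set G) ≤ H ⊓ centralizer (A : Set G)).trans
        inf_centralizer_le_normalizer_fixGen)
      (c.key N hne (inf_le_left.trans hRH) hNn hNx ⟨c.le hv.1, hv.2⟩)
    have hc : Commute v n := mem_centralizer_iff.mp hn.1.2 v hv.1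
    have h1 : v ^ Nat.card R = k ^ Nat.card R := by
      have hk' : k = v * n⁻¹ := by rw [← hkn]; group
      rw [hk', hc.inv_right.mul_pow, inv_pow]
      have hn1 : n ^ Nat.card R = 1 :=
        orderOf_dvd_iff_pow_eq_one.mp (R.orderOf_dvd_natCard hn.1.1)
      rw [hn1, inv_one, mul_one]
    refine mem_of_pow_mem (h1 ▸ pow_mem hk _) ?_
    obtain ⟨i, hi⟩ := IsPGroup.iff_card.mp hRr
    rw [hi]
    exact ((Nat.coprime_primes hr c.qprime).mpr hrq).pow_left i |>.coprime_dvd_right
      (orderOf_dvd_of_pow_eq_one (c.pow_q v hv.1))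
  refine ⟨R, hRH, hRx, hRA, ⟨r, hr, hrq, hRr⟩, hVR, hfaith, hRV, ?_⟩
  rw [eq_bot_iff, ← hVcen, ← hVR]
  exact le_inf inf_le_left (le_centralizer_iff.mp
    (sup_le (le_centralizer_iff.mp (inf_le_left.trans hVV))
      (le_centralizer_iff.mp inf_le_right)))

/-- The noncentral case is impossible. -/
theorem false_of_noncentral (c : Critical p q x H V) (hVH : ¬ V ≤ centralizer (H : Set G)) :
    False := by
  haveI := c.comm
  haveI := Fact.mk c.qprime
  obtain ⟨R, hRH, hRx, hRA, ⟨r, hr, hrq, hRr⟩, hVR, hfaith, hRV, hVcR⟩ :=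
    c.exists_kernel_complement hVH
  haveI := Fact.mk hr
  set A := zpowers x with hA
  set C := centralizer (A : Set G) with hC
  have hAV : A ≤ normalizer (V : Set G) := zpowers_le.mpr c.inv
  have hAR : A ≤ normalizer (R : Set G) := zpowers_le.mpr hRx
  have hVV : V ≤ centralizer (V : Set G) := le_centralizer V
  have hRne : R ≠ ⊥ := fun h => hVH (by rw [← hVR, h, sup_bot_eq]; exact hVV)
  have hsmall : ∀ R₁ : Subgroup G, R₁ ≤ R → R₁ ≠ R → V ⊔ R₁ ≠ H := fun R₁ h1 h2 h3 =>
    h2 (eq_of_le_sup (hRH.trans c.normal) hRV h1 (h3.symm ▸ hRH))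
  have hVfull : V ≤ ⁅V, R⁆ := by
    have hne : ⁅V, R⁆ ≠ ⊥ := fun h => hRne (by
      rw [eq_bot_iff, ← hfaith]
      exact le_inf le_rfl (le_centralizer_iff.mp (commutator_eq_bot_iff_le_centralizer.mp h)))
    refine ((c.minimal _ (le_normalizer_iff_commutator_le_left.mp (hRH.trans c.normal)) ?_
      (Coprime.le_normalizer_commutator hAV hAR (mem_zpowers x))).resolve_left hne).ge
    rw [← hVR]
    exact sup_le (normalizer_commutator_ge_left V R) (normalizer_commutator_ge_right V R)
  -- some bracket is all of `R`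
  obtain ⟨u, hu, hBu⟩ : ∃ u ∈ R, bracket A u = R := by
    by_contra hall
    push Not at hall
    set s : Set (Subgroup G) := {L | ∃ M : Subgroup G, M < R ∧ x ∈ normalizer (M : Set G) ∧
      L = ⁅M, A⁆} with hs
    set R₀ := sSup s with hR₀
    have hR₀R : R₀ ≤ R := sSup_le fun L ⟨M, hM, hMx, hL⟩ =>
      hL ▸ (commutator_mono hM.le le_rfl).trans hRA.le
    have hAR₀ : A ≤ normalizer (R₀ : Set G) := by
      refine Coprime.le_normalizer_of_conj_mem fun a ha y hy => ?_
      have key : R₀.map (MulAut.conj a).toMonoidHom ≤ R₀ := by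
        rw [hR₀, map_le_iff_le_comap]
        refine sSup_le ?_
        rintro _ ⟨M, hM, hMx, rfl⟩ z hz
        exact mem_comap.mpr (le_sSup (show ⁅M, A⁆ ∈ s from ⟨M, hM, hMx, rfl⟩)
          (Coprime.conj_mem_of_le_normalizer (normalizer_commutator_ge_right M A) ha hz))
      exact key ⟨y, hy, rfl⟩
    set C' := R ⊓ C with hC'
    have hCR₀ : C' ≤ normalizer (R₀ : Set G) := by
      refine Coprime.le_normalizer_of_conj_mem fun g hg y hy => ?_
      have key : R₀.map (MulAut.conj g).toMonoidHom ≤ R₀ := by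
        rw [hR₀, map_le_iff_le_comap]
        refine sSup_le ?_
        rintro _ ⟨M, hM, hMx, rfl⟩
        refine map_le_iff_le_comap.mp (le_sSup ⟨M.map (MulAut.conj g).toMonoidHom, ?_, ?_, ?_⟩)
        · refine lt_of_le_of_ne ?_ fun he => hM.ne ?_
          · rintro _ ⟨z, hz, rfl⟩
            exact mul_mem (mul_mem hg.1 (hM.le hz)) (inv_mem hg.1)
          · refine eq_of_le_of_card_ge hM.le ?_
            rw [← he, card_map_of_injective (MulAut.conj g).injective]
        · refine le_normalizer_map _ ⟨x, hMx, ?_⟩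
          change g * x * g⁻¹ = x
          rw [← mem_centralizer_iff.mp hg.2 x (mem_zpowers x), mul_inv_cancel_right]
        · rw [map_commutator, map_conj_zpowers hg.2]
      exact key ⟨y, hy, rfl⟩
    have h1 : ∀ u ∈ R, bracket A u ≤ R₀ ⊔ C' := by
      intro u hu
      have hB : bracket A u ≤ R := (bracket_le_commutator hu).trans hRA.le
      conv_lhs => rw [← Coprime.commutator_sup_centralizer (le_normalizer_bracket u)
        (Coprime.coprime_of_le_right ((Coprime.commutator_le_of_le_normalizer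
          (le_normalizer_bracket u)).trans (hB.trans hRH)) c.cop') (Or.inl c.solv_zpowers)]
      exact sup_le_sup (le_sSup ⟨_, lt_of_le_of_ne hB (hall u hu),
        le_normalizer_bracket u (mem_zpowers x), rfl⟩) (inf_le_inf_right _ hB)
    have h2 : R ≤ R₀ ⊔ C' := by
      conv_lhs => rw [← hRA]
      rw [commutator_le]
      exact fun g hg a ha => h1 g hg (commutatorElement_mem_bracket ha)
    have h3 : R ≤ R₀ := by
      conv_lhs => rw [← hRA]
      refine (commutator_mono h2 le_rfl).trans (commutator_sup_left_le le_normalizer hCR₀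
        (Coprime.commutator_le_of_le_normalizer hAR₀) ?_)
      rw [commutator_eq_bot_iff_le_centralizer.mpr inf_le_right]
      exact bot_le
    refine c.false_of_le_normPreimage hAV ?_
    refine hVfull.trans ((commutator_mono le_rfl h3).trans
      (c.commutator_le_of_generators (normPreimage_le hAV) ?_))
    rintro _ ⟨M, hM, hMx, rfl⟩
    have hle : ⁅M, A⁆ ≤ M := Coprime.commutator_le_of_le_normalizer (zpowers_le.mpr hMx)
    refine ⟨hle.trans (hM.le.trans hRH), c.commutator_le_normPreimage hAV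
      (hle.trans (hM.le.trans hRH)) (normalizer_commutator_ge_right M A (mem_zpowers x))
      (Coprime.commutator_commutator_eq (zpowers_le.mpr hMx)
        (Coprime.coprime_of_le_right (hle.trans (hM.le.trans hRH)) c.cop'))
      (hsmall _ (hle.trans hM.le) (lt_of_le_of_lt hle hM).ne)⟩
  -- no fixed points in the centre of `R`
  set Z := R ⊓ centralizer (R : Set G) with hZ
  have hZC : Z ⊓ C = ⊥ := by
    by_contra hne
    obtain ⟨⟨z, hz⟩, hz1⟩ := Subgroup.ne_bot_iff_exists_ne_one.mp hne
    have hz1' : z ≠ 1 := fun h => hz1 (Subtype.ext h)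
    have hVz : V ⊓ centralizer (zpowers z : Set G) = ⊥ := by
      refine (c.minimal _ inf_le_left ?_ (le_normalizer_inf hAV
        (le_normalizer_centralizer (le_normalizer_of_le_centralizer
          (le_centralizer_iff.mp (zpowers_le.mpr hz.2)))) (mem_zpowers x))).resolve_right ?_
      · rw [← hVR]
        refine sup_le (le_normalizer_of_le_centralizer
          (hVV.trans (centralizer_le inf_le_left))) ?_
        exact le_normalizer_inf (hRH.trans c.normal) (le_normalizer_centralizer
          (le_normalizer_of_le_centralizer (le_centralizer_iff.mp (zpowers_le.mpr hz.1.2))))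
      · intro h
        refine hz1' ?_
        rw [← mem_bot, ← hfaith]
        exact ⟨hz.1.1, mem_centralizer_iff.mpr fun v hv =>
          (mem_centralizer_iff.mp ((inf_eq_left.mp h) hv) z (mem_zpowers z)).symm⟩
    refine c.not_le fun v hv => ?_
    let F : ↥(V ⊓ C) → ↥(V ⊓ C) := fun w => ⟨⁅(w : G), z⁆,
      le_normalizer_iff_commutator_le_left.mp (hRH.trans c.normal)
        (commutator_mem_commutator w.2.1 hz.1.1),
      by
        rw [commutatorElement_def]
        exact C.mul_mem (C.mul_mem (C.mul_mem w.2.2 hz.2) (C.inv_mem w.2.2)) (C.inv_mem hz.2)⟩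
    have hinj : Function.Injective F := by
      intro a b hab
      have h1 : ⁅(a : G), z⁆ = ⁅(b : G), z⁆ := congrArg Subtype.val hab
      simp only [commutatorElement_def, mul_left_inj] at h1
      have h2 : (b : G)⁻¹ * a ∈ V ⊓ centralizer (zpowers z : Set G) := by
        refine ⟨V.mul_mem (V.inv_mem b.2.1) a.2.1, mem_centralizer_iff.mpr fun g hg => ?_⟩
        refine mem_centralizer_singleton_iff.mp
          (zpowers_le.mpr (mem_centralizer_singleton_iff.mpr ?_) hg)
        calc z * ((b : G)⁻¹ * a) = (b : G)⁻¹ * (b * z * (b : G)⁻¹) * a := by group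
          _ = (b : G)⁻¹ * (a * z * (a : G)⁻¹) * a := by rw [h1]
          _ = (b : G)⁻¹ * a * z := by group
      rw [hVz, mem_bot, inv_mul_eq_one] at h2
      exact Subtype.ext h2.symm
    obtain ⟨w, hw⟩ := Finite.injective_iff_surjective.mp hinj ⟨v, hv⟩
    have hwv : ⁅(w : G), z⁆ = v := congrArg Subtype.val hw
    rw [← hwv, commutatorElement_def]
    refine mul_mem ?_ (inv_mem (bracket_inf_le_fixGen (hRH hu) ⟨by rw [hBu]; exact hz.1.1, hz.2⟩))
    refine bracket_inf_le_fixGen (mul_mem (c.le w.2.1) (hRH hu)) ⟨?_, ?_⟩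
    · rw [bracket_mul_left w.2.2, hBu]
      exact ⟨z, hz.1.1, rfl⟩
    · exact C.mul_mem (C.mul_mem w.2.2 hz.2) (C.inv_mem w.2.2)
  have hZH : Z ≤ H := inf_le_left.trans hRH
  have hAZ : A ≤ normalizer (Z : Set G) := le_normalizer_inf hAR (le_normalizer_centralizer hAR)
  have hZne : Z ≠ ⊥ := by
    intro h
    haveI : Nontrivial R := (nontrivial_iff_ne_bot R).mpr hRne
    haveI := hRr.center_nontrivial
    refine (nontrivial_iff_ne_bot (Subgroup.center R)).mp inferInstance ?_
    refine eq_bot_iff.mpr fun g hg => mem_bot.mpr ?_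
    have h1 : (g : G) ∈ Z := ⟨g.2, mem_centralizer_iff.mpr fun y hy =>
      congrArg Subtype.val (Subgroup.mem_center_iff.mp hg ⟨y, hy⟩)⟩
    rw [h, mem_bot] at h1
    exact Subtype.ext h1
  have hZA : ⁅Z, A⁆ = Z := by
    have h := Coprime.commutator_sup_centralizer hAZ (Coprime.coprime_of_le_right
      ((Coprime.commutator_le_of_le_normalizer hAZ).trans hZH) c.cop') (Or.inl c.solv_zpowers)
    rwa [hZC, sup_bot_eq] at h
  have hZR : Z = R := by
    by_contra hne
    refine c.false_of_le_normPreimage hAV ?_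
    have h1 := c.commutator_le_normPreimage hAV hZH (hAZ (mem_zpowers x)) hZA
      (hsmall Z inf_le_left hne)
    have hVZ : ⁅V, Z⁆ = V := by
      refine (c.minimal _ (le_normalizer_iff_commutator_le_left.mp (hZH.trans c.normal)) ?_
        (Coprime.le_normalizer_commutator hAV hAZ (mem_zpowers x))).resolve_left fun h => hZne ?_
      · rw [← hVR]
        exact sup_le (normalizer_commutator_ge_left V Z) (Coprime.le_normalizer_commutator
          (hRH.trans c.normal)
          (le_normalizer_inf le_normalizer (le_normalizer_centralizer le_normalizer)))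
      · rw [eq_bot_iff, ← hfaith]
        exact le_inf inf_le_left
          (le_centralizer_iff.mp (commutator_eq_bot_iff_le_centralizer.mp h))
    exact hVZ.ge.trans h1
  have hRC : R ⊓ C = ⊥ := by rw [← hZR]; exact hZC
  -- the order of `V`
  haveI : IsMulCommutative R :=
    le_centralizer_iff_isMulCommutative.mp (hZR.symm.le.trans inf_le_right)
  have hx1 : x ≠ 1 := by
    intro h
    apply hRne
    rw [← hRA, hA, h, zpowers_one_eq_bot, commutator_bot_right]
  have hcardA : Nat.card A = p := by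
    haveI := Fact.mk c.prime
    rw [hA, Nat.card_zpowers, orderOf_eq_prime c.pow_eq hx1]
  have hW := Cfsg.Agent.Lib.Wielandt.card_centralizer_frobenius (U := R) (E := A) (H := V) ?_
    hAR ?_ (sup_le (hRH.trans c.normal) hAV) (Coprime.isSolvable_of_le c.le c.solv) ?_
  rotate_left
  · have h := Coprime.coprime_of_le_right hRH c.cop'
    exact (disjoint_of_coprime_natCard h.symm).eq_bot
  · intro e he he1 g hg hcomm
    have h1 : g ∈ R ⊓ C := by
      refine ⟨hg, ?_⟩
      haveI := Fact.mk c.prime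
      have he' : zpowers e = A := by
        refine eq_of_le_of_card_ge (zpowers_le.mpr he) ?_
        rw [hcardA, Nat.card_zpowers]
        refine Nat.le_of_dvd (orderOf_pos e) ?_
        rcases (Nat.dvd_prime c.prime).mp (hcardA ▸ A.orderOf_dvd_natCard he) with h | h
        · exact absurd (orderOf_eq_one_iff.mp h) he1
        · rw [h]
      rw [hC, ← he']
      exact mem_centralizer_zpowers hcomm
    rw [hRC, mem_bot] at h1
    exact h1
  · refine ((Nat.Coprime.mul_left ?_ (Coprime.coprime_of_le_right c.le c.cop')).coprime_dvd_left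
      (card_sup_dvd hAR))
    obtain ⟨i, hi⟩ := IsPGroup.iff_card.mp hRr
    obtain ⟨j, hj⟩ := IsPGroup.iff_card.mp c.isPGroup
    rw [hi, hj]
    exact ((Nat.coprime_primes hr c.qprime).mpr hrq).pow i j
  have hbot : V ⊓ centralizer ((R ⊔ A : Subgroup G) : Set G) = ⊥ := by
    rw [eq_bot_iff, ← hVcR]
    exact inf_le_inf_left _ (centralizer_le (le_sup_left : R ≤ R ⊔ A))
  rw [hbot, card_bot, one_pow, one_mul, hVcR, card_bot, mul_one, hcardA] at hW
  -- every element of `V` is a product of two special ones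
  have hdec : ∀ a ∈ V, ∃ v ∈ V ⊓ C, ∃ w ∈ V ⊓ C, a = v * (u * w * u⁻¹) := by
    intro a ha
    set B := bracket A (a * u) with hB
    have hau : a * u ∈ H := mul_mem (c.le ha) (hRH hu)
    have hBH : B ≤ H := (bracket_le_commutator hau).trans c.commutator_eq.le
    have hAB : A ≤ normalizer (B : Set G) := le_normalizer_bracket _
    have hsplit : ∀ g ∈ A, ∃ t ∈ V, ⁅a * u, g⁆ = t * ⁅u, g⁆ := by
      intro g hg
      refine ⟨a * ⁅u, g⁆ * a⁻¹ * ⁅a, g⁆ * ⁅u, g⁆⁻¹, ?_, ?_⟩
      · have he : a * ⁅u, g⁆ * a⁻¹ * ⁅a, g⁆ * ⁅u, g⁆⁻¹ =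
            a * (⁅u, g⁆ * (a⁻¹ * ⁅a, g⁆) * ⁅u, g⁆⁻¹) := by group
        rw [he]
        refine mul_mem ha (Coprime.conj_mem_of_le_normalizer (hRH.trans c.normal)
          (hBu ▸ commutatorElement_mem_bracket hg) (mul_mem (inv_mem ha) ?_))
        exact Coprime.commutator_le_of_le_normalizer hAV (commutator_mem_commutator ha hg)
      · rw [commutatorElement_mul_left_eq_conj_mul]; group
    have hsup : V ⊔ B = H := by
      refine le_antisymm (sup_le c.le hBH) ?_
      rw [← hVR]
      refine sup_le le_sup_left ?_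
      rw [← hBu, bracket, closure_le]
      rintro _ ⟨g, hg, rfl⟩
      obtain ⟨t, ht, he⟩ := hsplit g hg
      change ⁅u, g⁆ ∈ V ⊔ B
      rw [show ⁅u, g⁆ = t⁻¹ * ⁅a * u, g⁆ by rw [he, inv_mul_cancel_left]]
      exact mul_mem_sup (inv_mem ht) (commutatorElement_mem_bracket hg)
    have hBV : V ⊓ B = ⊥ := by
      refine (c.minimal _ inf_le_left ?_
        (le_normalizer_inf hAV hAB (mem_zpowers x))).resolve_right fun h => c.not_le ?_
      · rw [← hsup]
        exact sup_le (le_normalizer_of_le_centralizer (hVV.trans (centralizer_le inf_le_left)))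
          (le_normalizer_inf (hBH.trans c.normal) le_normalizer)
      · exact (inf_le_inf_right _ (inf_eq_left.mp h)).trans (bracket_inf_le_fixGen hau)
    haveI : (V.subgroupOf H).Normal := normal_subgroupOf_of_le_normalizer c.normal
    have hcompl : ∀ L : Subgroup G, L ≤ H → V ⊔ L = H → V ⊓ L = ⊥ →
        IsComplement' (V.subgroupOf H) (L.subgroupOf H) := by
      intro L hL hs hb
      refine isComplement'_of_disjoint_and_mul_eq_univ ?_ ?_
      · rw [disjoint_iff, eq_bot_iff]
        intro g hg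
        have h1 : (g : G) ∈ V ⊓ L := hg
        rw [hb, mem_bot] at h1
        exact mem_bot.mpr (Subtype.ext h1)
      · rw [← normal_mul, ← subgroupOf_sup c.le hL, hs, subgroupOf_self, coe_top]
    have hc1 := hcompl R hRH hVR (by rw [inf_comm]; exact hRV)
    have hcop : (Nat.card (V.subgroupOf H)).Coprime (V.subgroupOf H).index := by
      rw [(IsComplement'.symm hc1).index_eq_card, Nat.card_congr (subgroupOfEquivOfLe c.le).toEquiv,
        Nat.card_congr (subgroupOfEquivOfLe hRH).toEquiv]
      obtain ⟨i, hi⟩ := IsPGroup.iff_card.mp hRr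
      obtain ⟨j, hj⟩ := IsPGroup.iff_card.mp c.isPGroup
      rw [hi, hj]
      exact ((Nat.coprime_primes c.qprime hr).mpr hrq.symm).pow j i
    obtain ⟨v', hv', hconj⟩ := Coprime.exists_conj_eq_of_isComplement' hcop
      (Or.inl (Coprime.isSolvable_of_le (le_refl _) (by
        haveI := Coprime.isSolvable_of_le c.le c.solv
        exact Group.isSolvable_of_isSolvable_injective
          (f := (subgroupOfEquivOfLe c.le).toMonoidHom) (subgroupOfEquivOfLe c.le).injective)))
      hc1 (hcompl B hBH hsup hBV)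
    set v : G := (v' : G) with hvdef
    have hvV : v ∈ V := hv'
    have hBR : ∀ g : G, g ∈ B → v⁻¹ * g * v ∈ R := by
      intro g hg
      have h1 : (⟨g, hBH hg⟩ : H) ∈ B.subgroupOf H := hg
      rw [hconj] at h1
      obtain ⟨y, hy, hye⟩ := h1
      have h2 : v * (y : G) * v⁻¹ = g := congrArg Subtype.val hye
      rw [← h2, show v⁻¹ * (v * (y : G) * v⁻¹) * v = y by group]
      exact hy
    have hBR' : ∀ g : G, g ∈ R → v * g * v⁻¹ ∈ B := by
      intro g hg
      have h1 : (⟨v * g * v⁻¹, mul_mem (mul_mem (c.le hvV) (hRH hg)) (inv_mem (c.le hvV))⟩ : H) ∈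
          (R.subgroupOf H).map (MulAut.conj v').toMonoidHom :=
        ⟨⟨g, hRH hg⟩, hg, rfl⟩
      rw [← hconj] at h1
      exact h1
    -- `v` is fixed
    have hvC : v ∈ V ⊓ C := by
      refine ⟨hvV, ?_⟩
      set w := v⁻¹ * (x * v * x⁻¹) with hw
      have hwV : w ∈ V := mul_mem (inv_mem hvV) ((mem_normalizer_iff.mp c.inv v).mp hvV)
      have hwR : w ∈ centralizer (R : Set G) := by
        refine mem_centralizer_iff.mpr fun g hg => ?_
        have h0 : x⁻¹ * g * x ∈ R :=
          Coprime.conj_mem_of_le_normalizer' hAR (mem_zpowers x) hg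
        have h1 : x * (v * (x⁻¹ * g * x) * v⁻¹) * x⁻¹ ∈ B :=
          Coprime.conj_mem_of_le_normalizer hAB (mem_zpowers x) (hBR' _ h0)
        have h2 : w * g * w⁻¹ ∈ R := by
          have h := hBR _ h1
          rwa [show v⁻¹ * (x * (v * (x⁻¹ * g * x) * v⁻¹) * x⁻¹) * v = w * g * w⁻¹ by
            rw [hw]; group] at h
        have h3 : w * g * w⁻¹ * g⁻¹ ∈ R ⊓ V := by
          refine ⟨R.mul_mem h2 (R.inv_mem hg), ?_⟩
          rw [show w * g * w⁻¹ * g⁻¹ = w * (g * w⁻¹ * g⁻¹) by group]
          exact mul_mem hwV ((mem_normalizer_iff.mp (c.normal (hRH hg)) _).mp (inv_mem hwV))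
        rw [hRV, mem_bot] at h3
        exact (commutatorElement_eq_one_iff_mul_comm.mp h3).symm
      have hw1 : w ∈ V ⊓ centralizer (R : Set G) := ⟨hwV, hwR⟩
      rw [hVcR, mem_bot, hw, inv_mul_eq_one] at hw1
      refine mem_centralizer_zpowers ?_
      exact (mul_inv_eq_iff_eq_mul.mp hw1.symm)
    set e := ⁅u, x⁆ with he
    have heR : e ∈ R := hBu ▸ commutatorElement_mem_bracket (mem_zpowers x)
    have hav : v⁻¹ * a ∈ V := mul_mem (inv_mem hvV) ha
    have hσa : x * a⁻¹ * x⁻¹ ∈ V := (mem_normalizer_iff.mp c.inv _).mp (inv_mem ha)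
    have heq : e⁻¹ * (v⁻¹ * a) * e * (x * a⁻¹ * x⁻¹ * v) = 1 := by
      have h1 : v⁻¹ * ⁅a * u, x⁆ * v ∈ R :=
        hBR _ (commutatorElement_mem_bracket (mem_zpowers x))
      have h2 : v⁻¹ * ⁅a * u, x⁆ * v =
          e * (e⁻¹ * (v⁻¹ * a) * e * (x * a⁻¹ * x⁻¹ * v)) := by
        rw [commutatorElement_mul_left_eq_conj_mul, ← he, commutatorElement_def a x]; group
      rw [h2, R.mul_mem_cancel_left heR] at h1
      have h3 : e⁻¹ * (v⁻¹ * a) * e * (x * a⁻¹ * x⁻¹ * v) ∈ R ⊓ V := ⟨h1,
        mul_mem (Coprime.conj_mem_of_le_normalizer' (hRH.trans c.normal) heR hav)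
          (mul_mem hσa hvV)⟩
      rw [hRV, mem_bot] at h3
      exact h3
    set w' := v⁻¹ * a with hw'
    have hxv : x * v * x⁻¹ = v := by
      rw [mem_centralizer_iff.mp hvC.2 x (mem_zpowers x), mul_inv_cancel_right]
    have h4 : e⁻¹ * w' * e = x * w' * x⁻¹ := by
      rw [mul_eq_one_iff_eq_inv] at heq
      rw [heq, hw']
      calc (x * a⁻¹ * x⁻¹ * v)⁻¹ = v⁻¹ * (x * a * x⁻¹) := by group
        _ = (x * v * x⁻¹)⁻¹ * (x * a * x⁻¹) := by rw [hxv]
        _ = x * (v⁻¹ * a) * x⁻¹ := by group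
    refine ⟨v, hvC, u⁻¹ * w' * u, ⟨?_, ?_⟩, ?_⟩
    · exact Coprime.conj_mem_of_le_normalizer' (hRH.trans c.normal) hu hav
    · refine mem_centralizer_zpowers ?_
      calc x * (u⁻¹ * w' * u) = u⁻¹ * (e * (x * w' * x⁻¹) * e⁻¹) * u * x := by
            rw [he, commutatorElement_def]; group
        _ = u⁻¹ * (e * (e⁻¹ * w' * e) * e⁻¹) * u * x := by rw [h4]
        _ = u⁻¹ * w' * u * x := by group
    · rw [hw']; group
  have hle : Nat.card V ≤ Nat.card ↥(V ⊓ C) * Nat.card ↥(V ⊓ C) := by
    rw [← Nat.card_prod]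
    let Φ : ↥(V ⊓ C) × ↥(V ⊓ C) → V := fun t => ⟨(t.1 : G) * (u * t.2 * u⁻¹),
      mul_mem t.1.2.1 ((mem_normalizer_iff.mp (c.normal (hRH hu)) _).mp t.2.2.1)⟩
    refine Nat.card_le_card_of_surjective Φ fun a => ?_
    obtain ⟨v, hv, w, hw, he⟩ := hdec a a.2
    exact ⟨(⟨v, hv⟩, ⟨w, hw⟩), Subtype.ext he.symm⟩
  set m := Nat.card ↥(V ⊓ C) with hm
  rw [hW] at hle
  have hm0 : 0 < m := Nat.card_pos
  have hp3 : 3 ≤ p := by
    have := c.prime.two_le
    have := c.ne_two
    omega
  have hm1 : m = 1 := by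
    by_contra hne
    have h2 : m ^ 2 < m ^ p := Nat.pow_lt_pow_right (by omega) (by omega)
    rw [pow_two] at h2
    omega
  rw [hm1, one_pow] at hW
  exact c.ne_bot (card_eq_one.mp hW)

end Critical

end Cfsg.Agent.Lib.CoprimeFlavell
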