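import Cfsg.Agent.Lib.CoprimeFlavell.CentralPGroup
import Cfsg.Agent.Lib.CoprimeFlavell.Noncentral
import Cfsg.Agent.Lib.Coprime.Semidirect

/-!
# Fixed points of commutators under coprime action of a group of odd prime order

For a solvable `H` of order prime to the odd prime `p` and `x` with `x ^ p = 1` normalising `H`,
the fixed points of `x` in `⁅H, x⁆` are generated by those in the subgroups `bracket ⟨x⟩ h`.
-/

set_option autoImplicit false

namespace Cfsg.Agent.Lib.CoprimeFlavell

open Subgroup
open scoped commutatorElement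

universe u

theorem below_all (p : ℕ) : ∀ n, Below.{u} p n := by
  intro n
  induction n with
  | zero => intro Δ _ _ y K _ h; omega
  | succ n ih =>
    intro G _ _ x H s hlt
    rcases Nat.lt_succ_iff_lt_or_eq.mp hlt with h | h
    · exact ih G x H s h
    set A := zpowers x with hA
    have hbelow : ∀ K ≤ H, K ≠ H → x ∈ normalizer (K : Set G) →
        ⁅K, A⁆ ⊓ centralizer (A : Set G) ≤ fixGen A H := by
      intro K hK hne hxK
      have hcard : Nat.card K < n := by
        rw [← h]
        refine lt_of_le_of_ne (card_le_of_le hK) fun he => hne ?_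
        exact eq_of_le_of_card_ge hK he.ge
      exact (ih G x K (s.mono hK hxK) hcard).trans (fixGen_mono hK)
    by_cases hcomm : ⁅H, A⁆ = H
    swap
    · have hle : ⁅H, A⁆ ≤ H := Coprime.commutator_le_of_le_normalizer s.le_normalizer
      have h1 := hbelow ⁅H, A⁆ hle hcomm (normalizer_commutator_ge_right H A (mem_zpowers x))
      rwa [Coprime.commutator_commutator_eq s.le_normalizer
        (Coprime.coprime_of_le_right hle s.cop')] at h1
    unfold Holds
    rw [hcomm]
    rcases eq_or_ne H ⊥ with hbot | hne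
    · rw [hbot]; exact inf_le_left.trans bot_le
    obtain ⟨q, V, hq, hVH, hV0, hVc, hVq, hVn, hVx, hVmin⟩ := exists_minimal_invariant s hne
    have hih : Below.{u} p (Nat.card H) := h.symm ▸ ih
    by_cases hle : V ⊓ centralizer (A : Set G) ≤ fixGen A H
    · exact (inf_centralizer_le_fixGen_sup s hih hcomm hV0 hVH hVn hVx).trans (sup_le le_rfl hle)
    exfalso
    have c : Critical p q x H V :=
      { toSetting := s
        below := hbelow
        commutator_eq := hcomm
        key := fun N h1 h2 h3 h4 => inf_centralizer_le_fixGen_sup s hih hcomm h1 h2 h3 h4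
        qprime := hq
        le := hVH
        ne_bot := hV0
        comm := hVc
        pow_q := hVq
        normal := hVn
        inv := hVx
        minimal := hVmin
        not_le := hle }
    by_cases hc : V ≤ centralizer (H : Set G)
    · obtain ⟨z, hz⟩ := c.exists_centralCase hc
      exact hz.false'
    · exact c.false_of_noncentral hc

/-- The fixed points of `x` in `⁅H, x⁆` are generated by the fixed points in the brackets. -/
theorem commutator_inf_centralizer_eq {G : Type u} [Group G] [Finite G] {p : ℕ} {x : G}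
    {H : Subgroup G} (s : Setting p x H) :
    ⁅H, zpowers x⁆ ⊓ centralizer (zpowers x : Set G) = fixGen (zpowers x) H :=
  le_antisymm (below_all p _ G x H s (Nat.lt_succ_self _))
    (le_inf fixGen_le_commutator fixGen_le_centralizer)

/-- The same for an automorphism `x` of order dividing `p`. -/
theorem closure_inf_eqLocus_eq {H : Type u} [Group H] [Finite H] [Group.IsSolvable H] {p : ℕ}
    (hp : p.Prime) (hp2 : p ≠ 2) (hcop : (Nat.card H).Coprime p) (x : MulAut H)
    (hx : x ^ p = 1) :
    closure {c : H | ∃ h : H, ∃ i : ℕ, c = h⁻¹ * (x ^ i) h} ⊓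
        (x : H →* H).eqLocus (MonoidHom.id H) =
      ⨆ h : H, closure {c : H | ∃ i : ℕ, c = h⁻¹ * (x ^ i) h} ⊓
        (x : H →* H).eqLocus (MonoidHom.id H) := by
  refine le_antisymm ?_ (iSup_le fun h => inf_le_inf_right _ (closure_mono ?_))
  swap
  · rintro _ ⟨i, rfl⟩; exact ⟨h, i, rfl⟩
  set A := zpowers x with hA
  set φ : A →* MulAut H := A.subtype with hφ
  haveI : Finite (H ⋊[φ] A) := Coprime.finite_semidirect φ
  set ι : H →* H ⋊[φ] A := SemidirectProduct.inl with hι
  set a₀ : H ⋊[φ] A := SemidirectProduct.inr ⟨x, mem_zpowers x⟩ with ha₀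
  have hrange : (SemidirectProduct.inr : A →* H ⋊[φ] A).range = zpowers a₀ := by
    have htop : zpowers (⟨x, mem_zpowers x⟩ : A) = ⊤ := by
      refine eq_top_iff.mpr fun y _ => ?_
      obtain ⟨i, hi⟩ := mem_zpowers_iff.mp y.2
      exact mem_zpowers_iff.mpr ⟨i, Subtype.ext (by simpa using hi)⟩
    rw [MonoidHom.range_eq_map, ← htop, MonoidHom.map_zpowers]
  have hset : Setting p a₀ ((⊤ : Subgroup H).map ι) :=
    { prime := hp
      ne_two := hp2
      pow_eq := by
        rw [ha₀, ← map_pow]
        exact (congrArg _ (Subtype.ext hx)).trans (map_one _)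
      mem_normalizer := by
        rw [← MonoidHom.range_eq_map]
        exact Coprime.inr_range_le_normalizer φ (hrange ▸ mem_zpowers a₀)
      solv := Group.isSolvable_of_surjective (f := ι.rangeRestrict.comp (MonoidHom.id H))
        ι.rangeRestrict_surjective |> fun h => by rwa [← MonoidHom.range_eq_map]
      cop := by rwa [Coprime.card_map_inl, card_top] }
  rintro c ⟨hcK, hcf⟩
  have hmem : ι c ∈ ⁅(⊤ : Subgroup H).map ι, zpowers a₀⁆ ⊓
      centralizer (zpowers a₀ : Set (H ⋊[φ] A)) := by
    refine ⟨?_, ?_⟩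
    · rw [← hrange, hι, Coprime.commutator_map_inl]
      refine mem_map_of_mem _ (closure_mono ?_ hcK)
      rintro _ ⟨h, i, rfl⟩
      exact ⟨⟨x ^ i, pow_mem (mem_zpowers x) i⟩, h⁻¹, mem_top _, by rw [inv_inv]; rfl⟩
    · rw [← hrange]
      refine (Coprime.mem_centralizer_inr_iff φ).mpr fun a => ?_
      have hfix : x ∈ MulAction.stabilizer (MulAut H) c := hcf
      exact zpowers_le.mpr hfix a.2
  rw [commutator_inf_centralizer_eq hset] at hmem
  set K := ⨆ h : H, closure {c : H | ∃ i : ℕ, c = h⁻¹ * (x ^ i) h} ⊓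
    (x : H →* H).eqLocus (MonoidHom.id H) with hK
  have hle : fixGen (zpowers a₀) ((⊤ : Subgroup H).map ι) ≤ K.map ι := by
    refine iSup₂_le ?_
    rintro _ ⟨h, -, rfl⟩ y ⟨hy, hyC⟩
    have hB : bracket (zpowers a₀) (ι h) ≤
        (closure {c : H | ∃ i : ℕ, c = h⁻¹⁻¹ * (x ^ i) h⁻¹}).map ι := by
      rw [bracket, closure_le]
      rintro _ ⟨a, ha, rfl⟩
      rw [← hrange] at ha
      obtain ⟨⟨b, hb⟩, rfl⟩ := ha
      obtain ⟨i, hi⟩ := Submonoid.mem_powers_iff _ _ |>.mp
        ((isOfFinOrder_of_finite x).mem_powers_iff_mem_zpowers.mpr hb)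
      refine ⟨h * (x ^ i) h⁻¹, subset_closure ⟨i, by rw [inv_inv]⟩, ?_⟩
      change ι _ = ⁅ι h, (SemidirectProduct.inr ⟨b, hb⟩ : H ⋊[φ] A)⁆
      rw [hι, Coprime.commutatorElement_inl_inr]
      simp [hφ, ← hi]
    obtain ⟨d, hd, rfl⟩ := hB hy
    refine mem_map_of_mem _ (mem_iSup_of_mem h⁻¹ ⟨hd, ?_⟩)
    rw [← hrange] at hyC
    exact (Coprime.mem_centralizer_inr_iff φ).mp hyC ⟨x, mem_zpowers x⟩
  obtain ⟨d, hd, hde⟩ := hle hmem
  exact SemidirectProduct.inl_injective hde ▸ hd

end Cfsg.Agent.Lib.CoprimeFlavell
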