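import Cfsg.Agent.Lib.CoprimeFlavell.Critical

/-!
# Fixed points of commutators under coprime action: the norm map on the minimal subgroup
-/

set_option autoImplicit false

namespace Cfsg.Agent.Lib.CoprimeFlavell

open Subgroup
open scoped commutatorElement IsMulCommutative

universe u

variable {G : Type u} [Group G] [Finite G] {p q : ℕ} {x : G} {H V R : Subgroup G}

/-- The elements of `V` whose norm lies in `fixGen`. -/
noncomputable def normPreimage (x : G) (H V : Subgroup G) [IsMulCommutative V]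
    (hAV : zpowers x ≤ normalizer (V : Set G)) : Subgroup G :=
  (((fixGen (zpowers x) H).subgroupOf V).comap (Coprime.norm hAV)).map V.subtype

namespace Critical

theorem commutator_le_normPreimage (c : Critical p q x H V) [IsMulCommutative V]
    (hAV : zpowers x ≤ normalizer (V : Set G)) (hR : R ≤ H) (hxR : x ∈ normalizer (R : Set G))
    (hRA : ⁅R, zpowers x⁆ = R) (hne : V ⊔ R ≠ H) : ⁅V, R⁆ ≤ normPreimage x H V hAV := by
  intro v hv
  have hvV : v ∈ V := le_normalizer_iff_commutator_le_left.mp (hR.trans c.normal) hv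
  set A := zpowers x with hA
  set Y := V ⊔ R with hY
  have hYx : A ≤ normalizer (Y : Set G) := le_normalizer_sup hAV (zpowers_le.mpr hxR)
  have hRY : R ≤ ⁅Y, A⁆ := by
    conv_lhs => rw [← hRA]
    exact commutator_mono le_sup_right le_rfl
  have hvY : v ∈ ⁅Y, A⁆ := commutator_le_commutator_of_le le_sup_left hRY hv
  refine ⟨⟨v, hvV⟩, ?_, rfl⟩
  change (Coprime.norm hAV ⟨v, hvV⟩ : G) ∈ fixGen A H
  refine c.below Y (sup_le c.le hR) hne (hYx (mem_zpowers x))
    ⟨?_, Coprime.norm_mem_centralizer hAV _⟩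
  letI := Fintype.ofFinite A
  simp only [Coprime.norm, MonoidHom.finsetProd_apply]
  show _ ∈ (⁅Y, A⁆).comap V.subtype
  refine Subgroup.prod_mem _ fun a _ => ?_
  rw [mem_comap, Subgroup.subtype_apply, Coprime.conjEnd_coe]
  exact Coprime.conj_mem_of_le_normalizer (normalizer_commutator_ge_right Y A) a.2 hvY

theorem false_of_le_normPreimage (c : Critical p q x H V) [IsMulCommutative V]
    (hAV : zpowers x ≤ normalizer (V : Set G)) (h : V ≤ normPreimage x H V hAV) : False := by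
  refine c.not_le ?_
  rintro v ⟨hv, hvC⟩
  obtain ⟨⟨w, hw⟩, hw', rfl⟩ := h hv
  change (Coprime.norm hAV ⟨w, hw⟩ : G) ∈ fixGen (zpowers x) H at hw'
  rw [Coprime.norm_eq_pow_of_mem_centralizer hAV _ hvC, SubmonoidClass.coe_pow] at hw'
  exact mem_of_pow_mem hw' (c.cop'.coprime_dvd_right (H.orderOf_dvd_natCard (c.le hw)))

omit [Finite G] in
theorem normPreimage_le [Finite G] [IsMulCommutative V]
    (hAV : zpowers x ≤ normalizer (V : Set G)) : normPreimage x H V hAV ≤ V :=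
  map_subtype_le _

/-- `⁅V, ⨆ i, Rs i⁆ ≤ W` can be checked on the generators when `W ≤ V`. -/
theorem commutator_le_of_generators (c : Critical p q x H V) [IsMulCommutative V]
    {W : Subgroup G} (hW : W ≤ V) {s : Set (Subgroup G)}
    (hs : ∀ L ∈ s, L ≤ H ∧ ⁅V, L⁆ ≤ W) : ⁅V, sSup s⁆ ≤ W := by
  let P : Subgroup G :=
    { carrier := {h | h ∈ normalizer (V : Set G) ∧ ∀ v ∈ V, ⁅v, h⁆ ∈ W}
      one_mem' := ⟨one_mem _, fun v _ => by simp⟩
      mul_mem' := fun {h k} hh hk => ⟨mul_mem hh.1 hk.1, fun v hv => by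
        have hw : ⁅v, k⁆ ∈ V := hW (hk.2 v hv)
        rw [show ⁅v, h * k⁆ = ⁅v, h⁆ * (⁅⁅v, k⁆, h⁆⁻¹ * ⁅v, k⁆) by
          simp only [commutatorElement_def]; group]
        exact mul_mem (hh.2 v hv) (mul_mem (inv_mem (hh.2 _ hw)) (hk.2 v hv))⟩
      inv_mem' := fun {h} hh => ⟨inv_mem hh.1, fun v hv => by
        have h1 : h⁻¹ * v⁻¹ * h⁻¹⁻¹ ∈ V :=
          (mem_normalizer_iff.mp (inv_mem hh.1) _).mp (inv_mem hv)
        have hcomm : (h⁻¹ * v⁻¹ * h) * v = v * (h⁻¹ * v⁻¹ * h) :=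
          congrArg Subtype.val (mul_comm' (⟨h⁻¹ * v⁻¹ * h, by simpa using h1⟩ : V) ⟨v, hv⟩)
        have he : ⁅v, h⁻¹⁆ = ⁅h⁻¹ * v⁻¹ * h⁻¹⁻¹, h⁆ := by
          simp only [commutatorElement_def]
          calc v * h⁻¹ * v⁻¹ * h⁻¹⁻¹ = v * (h⁻¹ * v⁻¹ * h) := by group
            _ = h⁻¹ * v⁻¹ * h * v := hcomm.symm
            _ = h⁻¹ * v⁻¹ * h⁻¹⁻¹ * h * (h⁻¹ * v⁻¹ * h⁻¹⁻¹)⁻¹ * h⁻¹ := by group
        rw [he]
        exact hh.2 _ h1⟩ }
  have hle : sSup s ≤ P := sSup_le fun L hL g hg => ⟨((hs L hL).1.trans c.normal) hg,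
    fun v hv => (hs L hL).2 (commutator_mem_commutator hv hg)⟩
  exact commutator_le.2 fun v hv g hg => (hle hg).2 v hv

end Critical

end Cfsg.Agent.Lib.CoprimeFlavell
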